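import Cfsg.Agent.Lib.Invol.SuzTwo.Quot

/-!
# The case of an abelian quotient
-/

set_option autoImplicit false

namespace Cfsg.Agent.Invol.SuzTwo

open scoped commutatorElement

universe u

variable {Q : Type u} [Group Q] {α ρ : MulAut Q} {F : Type*} [Field F] [Fintype F] [CharP F 2] {ω : F}
  {θ : Q → F} [Finite Q]

/-- A group that is, modulo a central kernel, a line, is abelian. -/
theorem line_abelian (h : Hyp α ρ ω θ) (hω : IsGen ω) (χ : Q → F) (hm : ∀ x y, χ (x * y) = χ x + χ y)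
    (hs : Function.Surjective χ) (hρ : ∀ x, χ (ρ x) = ω * χ x) (hc : ∀ x y : Q, α ⁅x, y⁆ = ⁅x, y⁆)
    (hk : ∀ x, χ x = 0 → ∀ z, z * x = x * z) : ∀ x y : Q, x * y = y * x := by
  obtain ⟨sec, hsec⟩ := hs.hasRightInverse
  have hlx : ∀ x y, χ x = χ y → ∃ e, (∀ z, z * e = e * z) ∧ y = x * e := by
    intro x y hxy
    refine ⟨x⁻¹ * y, hk _ ?_, (mul_inv_cancel_left _ _).symm⟩
    have h1 := hm x (x⁻¹ * y)
    rw [mul_inv_cancel_left, hxy] at h1
    simpa using h1.symm.trans (add_zero _).symm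
  have hb : ∀ x y : Q, ⁅x, y⁆ = ⁅sec (χ x), sec (χ y)⁆ := by
    intro x y
    obtain ⟨e, he, hxe⟩ := hlx (sec (χ x)) x (hsec _)
    obtain ⟨d, hd, hyd⟩ := hlx (sec (χ y)) y (hsec _)
    conv_lhs => rw [hxe, hyd, comm_eq_of_central' he, comm_eq_of_central hd]
  have hcen : ∀ x y : Q, ∀ z, z * ⁅x, y⁆ = ⁅x, y⁆ * z := fun x y z => h.central hω (hc x y) z
  obtain ⟨-, hh⟩ := hform hω (fun s t => θ (⁅sec s, sec t⁆ : Q))
    (fun s s' t => by
      have e : ⁅sec (s + s'), sec t⁆ = ⁅sec s * sec s', sec t⁆ := by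
        rw [hb (sec s * sec s') (sec t), hm, hsec, hsec, hsec]
      show θ ⁅sec (s + s'), sec t⁆ = _
      rw [e, comm_mul_left (hcen _ _), h.add _ _ (hc _ _) (hc _ _), add_comm])
    (fun s t t' => by
      have e : ⁅sec s, sec (t + t')⁆ = ⁅sec s, sec t * sec t'⁆ := by
        rw [hb (sec s) (sec t * sec t'), hm, hsec, hsec, hsec]
      show θ ⁅sec s, sec (t + t')⁆ = _
      rw [e, comm_mul_right (hcen _ _), h.add _ _ (hc _ _) (hc _ _)])
    (fun s t => by
      have e : ⁅sec (ω * s), sec (ω * t)⁆ = ρ ⁅sec s, sec t⁆ := by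
        rw [map_commutatorElement, hb (ρ (sec s)) (ρ (sec t)), hρ, hρ, hsec, hsec]
      show θ ⁅sec (ω * s), sec (ω * t)⁆ = _
      rw [e, h.equiv _ (hc _ _)])
  intro x y
  rw [← commutatorElement_eq_one_iff_mul_comm, hb]
  refine h.inj _ (hc _ _) (mul_self_eq_zero.mp ?_)
  rw [hh]
  simp only [commutatorElement_self, h.theta_one, zero_mul]

theorem abel_case {A : Type*} [Group A] [Finite A] {α' ρ' : MulAut A} {θ' : A → F}
    (h : Hyp α ρ ω θ) (hω : IsGen ω) (mk : Q →* A) (hmks : Function.Surjective mk)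
    (hmk : ∀ x, mk x = 1 ↔ α x = x) (hα' : ∀ x, α' (mk x) = mk (α x)) (hρ' : ∀ x, ρ' (mk x) = mk (ρ x))
    (h' : Hyp α' ρ' ω θ') (hA : ∀ a b : A, a * b = b * a) :
    (∀ x y : Q, x * y = y * x) ∨ Shape α ρ ω θ := by
  classical
  letI : CommGroup A := { (inferInstance : Group A) with mul_comm := hA }
  have hcQ : ∀ x y : Q, α ⁅x, y⁆ = ⁅x, y⁆ := fun x y => by
    rw [← hmk, map_commutatorElement]
    exact commutatorElement_eq_one_iff_mul_comm.mpr (hA _ _)
  have hcen : ∀ x y : Q, ∀ z, z * ⁅x, y⁆ = ⁅x, y⁆ * z := fun x y z => h.central hω (hcQ x y) z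
  obtain ⟨d0, hd0, hd0θ⟩ := h'.surj 1
  have hd01 : d0 ≠ 1 := fun e => by
    rw [e, h'.theta_one] at hd0θ
    exact zero_ne_one hd0θ
  have hρpow : ∀ (i : ℕ) x, (ρ' ^ i) (mk x) = mk ((ρ ^ i) x) := by
    intro i
    induction i with
    | zero => intro x; rfl
    | succ i ih => intro x; rw [pow_succ', pow_succ', MulAut.mul_apply, MulAut.mul_apply, ih, hρ']
  have hρpow' : ∀ (f : A → F), (∀ a, f (ρ' a) = ω * f a) → ∀ (i : ℕ) a, f ((ρ' ^ i) a) = ω ^ i * f a := by
    intro f hf i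
    induction i with
    | zero => simp
    | succ i ih => intro a; rw [pow_succ', MulAut.mul_apply, hf, ih, pow_succ', mul_assoc]
  have honto : ∀ (f : A → F), f 1 = 0 → (∀ a, f (ρ' a) = ω * f a) → (∃ a, f a ≠ 0) → Function.Surjective f := by
    intro f hf1 hf ⟨a, ha⟩ t
    by_cases ht : t = 0
    · exact ⟨1, by rw [hf1, ht]⟩
    obtain ⟨i, hi⟩ := hω.2 (t / f a) (div_ne_zero ht ha)
    exact ⟨(ρ' ^ i) a, by rw [hρpow' f hf, hi, div_mul_cancel₀ _ ha]⟩
  -- `a * α' a` is always fixed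
  have hN : ∀ a, α' (a * α' a) = a * α' a := fun a => by rw [map_mul, h'.invol]; exact hA _ _
  let κ : A → F := fun a => θ' (a * α' a)
  have hκm : ∀ a b, κ (a * b) = κ a + κ b := fun a b => by
    show θ' _ = θ' _ + θ' _
    rw [← h'.add _ _ (hN a) (hN b), map_mul, mul_mul_mul_comm]
  have hκ1 : κ 1 = 0 := by show θ' _ = 0; rw [map_one, mul_one, h'.theta_one]
  have hκρ : ∀ a, κ (ρ' a) = ω * κ a := fun a => by
    show θ' _ = _
    rw [h'.comm, ← map_mul, h'.equiv _ (hN a)]
  by_cases hlow : ∀ a : A, a * a = 1 → α' a = a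
  · -- all involutions are fixed: the line through the top
    left
    obtain ⟨m, hm⟩ := IsPGroup.iff_card.mp h'.pg
    have hex : ∃ j, ∀ a : A, a ^ 2 ^ j = 1 := ⟨m, fun a => by rw [← hm]; exact pow_card_eq_one'⟩
    obtain ⟨e, he⟩ : ∃ e, Nat.find hex = e + 1 := by
      rcases Nat.eq_zero_or_pos (Nat.find hex) with h0 | h0
      · exact absurd (by simpa [h0] using Nat.find_spec hex d0) hd01
      · exact ⟨Nat.find hex - 1, by omega⟩
    have hsp := Nat.find_spec hex
    rw [he] at hsp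
    have hfixP : ∀ a, α' (a ^ 2 ^ e) = a ^ 2 ^ e := fun a => hlow _ (by
      rw [← pow_two, ← pow_mul, ← pow_succ]; exact hsp a)
    let χ₀ : A → F := fun a => θ' (a ^ 2 ^ e)
    have hχm : ∀ a b, χ₀ (a * b) = χ₀ a + χ₀ b := fun a b => by
      show θ' _ = θ' _ + θ' _
      rw [← h'.add _ _ (hfixP a) (hfixP b), mul_pow]
    have hχρ : ∀ a, χ₀ (ρ' a) = ω * χ₀ a := fun a => by
      show θ' _ = _
      rw [← map_pow, h'.equiv _ (hfixP a)]
    have hχs : Function.Surjective χ₀ := by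
      refine honto χ₀ ?_ hχρ ?_
      · show θ' _ = 0; rw [one_pow, h'.theta_one]
      · by_contra hno
        push Not at hno
        have : ∀ a : A, a ^ 2 ^ e = 1 := fun a => h'.inj _ (hfixP a) (hno a)
        have := Nat.find_min' hex this
        omega
    -- the kernel consists of squares
    let sqh : A →* A := powMonoidHom 2
    let χh : A →* Multiplicative F := MonoidHom.mk' (fun a => Multiplicative.ofAdd (χ₀ a))
      (fun a b => by rw [hχm]; rfl)
    have hχh : Function.Surjective χh := fun t => by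
      obtain ⟨a, ha⟩ := hχs t.toAdd
      exact ⟨a, by show Multiplicative.ofAdd (χ₀ a) = t; rw [ha]; rfl⟩
    have hker2 : sqh.ker = fixedSub α' := by
      ext a
      rw [MonoidHom.mem_ker, powMonoidHom_apply, mem_fixedSub, pow_two]
      exact ⟨hlow a, h'.sq_fix⟩
    have hfc : Nat.card (fixedSub α') = Nat.card (Multiplicative F) := by
      refine (Nat.card_congr (Equiv.ofBijective (fun a : fixedSub α' => Multiplicative.ofAdd (θ' a.1)) ⟨?_, ?_⟩))
      · intro a b hab
        exact Subtype.ext (h'.eq_of_theta a.2 b.2 (Multiplicative.ofAdd.injective hab))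
      · intro t
        obtain ⟨c, hc, hct⟩ := h'.surj t.toAdd
        exact ⟨⟨c, hc⟩, by show Multiplicative.ofAdd (θ' c) = t; rw [hct]; rfl⟩
    have hrange : sqh.range = χh.ker := by
      refine Subgroup.eq_of_le_of_card_ge ?_ (le_of_eq ?_)
      · rintro _ ⟨a, rfl⟩
        show Multiplicative.ofAdd (χ₀ (a ^ 2)) = 1
        rw [show χ₀ (a ^ 2) = 0 from by rw [pow_two, hχm]; exact CharTwo.add_self_eq_zero _]
        rfl
      · have h1 := Subgroup.card_eq_card_quotient_mul_card_subgroup sqh.ker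
        have h2 := Subgroup.card_eq_card_quotient_mul_card_subgroup χh.ker
        rw [Nat.card_congr (QuotientGroup.quotientKerEquivRange sqh).toEquiv, hker2, hfc] at h1
        rw [Nat.card_congr (QuotientGroup.quotientKerEquivOfSurjective χh hχh).toEquiv] at h2
        have hpos : 0 < Nat.card (Multiplicative F) := Nat.card_pos
        exact Nat.eq_of_mul_eq_mul_right hpos (by rw [← h1, h2, mul_comm])
    refine line_abelian h hω (fun x => χ₀ (mk x)) (fun x y => by show χ₀ _ = _; rw [map_mul, hχm])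
      (hχs.comp hmks) (fun x => by show χ₀ _ = _; rw [← hρ', hχρ]) hcQ ?_
    intro x hx z
    have hmem : mk x ∈ χh.ker := by
      show Multiplicative.ofAdd (χ₀ (mk x)) = 1
      rw [show χ₀ (mk x) = 0 from hx]; rfl
    rw [← hrange] at hmem
    obtain ⟨b, hb⟩ := hmem
    obtain ⟨y, rfl⟩ := hmks b
    have hc : α ((y * y)⁻¹ * x) = (y * y)⁻¹ * x := by
      rw [← hmk, map_mul, map_inv, inv_mul_eq_one, map_mul, ← hb, powMonoidHom_apply, pow_two]
    have hyz : z * (y * y) = y * y * z := by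
      refine (commutatorElement_eq_one_iff_mul_comm.mp ?_).symm
      rw [comm_mul_left (hcen y z)]
      exact h.sq_fix (hcQ y z)
    calc z * x = z * (y * y) * ((y * y)⁻¹ * x) := by group
      _ = y * y * (z * ((y * y)⁻¹ * x)) := by rw [hyz, mul_assoc]
      _ = y * y * ((y * y)⁻¹ * x) * z := by rw [h.central hω hc z, ← mul_assoc]
      _ = x * z := by group
  -- otherwise the quotient has exponent two and order `q²`
  push Not at hlow
  obtain ⟨w0, hw0, hw0'⟩ := hlow
  obtain ⟨w, hw⟩ : ∃ w : A → A, ∀ t : A, α' t = t → (w t * w t = 1 ∧ w t * α' (w t) = t) := by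
    have hκ0 : κ w0 ≠ 0 := fun e => hw0' (by
      have := h'.inj _ (hN w0) e
      rw [mul_eq_one_iff_inv_eq] at this
      rw [← this]
      exact inv_eq_of_mul_eq_one_right hw0)
    have : ∀ t : A, α' t = t → ∃ b, b * b = 1 ∧ b * α' b = t := by
      intro t ht
      by_cases ht0 : θ' t = 0
      · exact ⟨1, one_mul _, by rw [map_one, mul_one]; exact (h'.inj t ht ht0).symm⟩
      obtain ⟨i, hi⟩ := hω.2 (θ' t / κ w0) (div_ne_zero ht0 hκ0)
      refine ⟨(ρ' ^ i) w0, by rw [← map_mul, hw0, map_one], h'.eq_of_theta (hN _) ht ?_⟩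
      show κ _ = _
      rw [hρpow' κ hκρ, hi, div_mul_cancel₀ _ hκ0]
    choose! w hw using this
    exact ⟨w, hw⟩
  have hlift : ∀ a : A, α' (a * a) = a * a → a * a = 1 := by
    intro a ha
    obtain ⟨hb1, hb2⟩ := hw ((a * α' a) * (a * a)⁻¹) (h'.fix_mul (hN a) (h'.fix_inv ha))
    set b := w ((a * α' a) * (a * a)⁻¹)
    have hbinv : b⁻¹ = b := inv_eq_of_mul_eq_one_right hb1
    have hfixab : α' (a * b) = a * b := by
      have e1 : α' a = (a * α' a * (a * a)⁻¹) * a := by
        rw [mul_inv_rev]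
        calc α' a = a⁻¹ * (a * α' a) := (inv_mul_cancel_left _ _).symm
          _ = _ := by rw [hA a⁻¹]; group
      have e2 : α' b = b * (a * α' a * (a * a)⁻¹) := by
        rw [← hb2, ← mul_assoc, hb1, one_mul]
      rw [map_mul, e1, e2]
      have hz : (a * α' a * (a * a)⁻¹) * (a * α' a * (a * a)⁻¹) = 1 :=
        h'.sq_fix (h'.fix_mul (hN a) (h'.fix_inv ha))
      calc _ = (a * b) * ((a * α' a * (a * a)⁻¹) * (a * α' a * (a * a)⁻¹)) := by
            simp only [mul_comm, mul_left_comm, mul_assoc]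
        _ = _ := by rw [hz, mul_one]
    have := h'.sq_fix hfixab
    rwa [mul_mul_mul_comm, hb1, mul_one] at this
  have hfour : ∀ a : A, a * a * (a * a) = 1 → a * a = 1 := by
    intro a ha
    refine hlift a ?_
    have h1 : α' a = (a * α' a) * a⁻¹ := by rw [hA a (α' a), mul_inv_cancel_right]
    rw [map_mul, h1, mul_mul_mul_comm, h'.sq_fix (hN a), one_mul, ← mul_inv_rev]
    exact inv_eq_of_mul_eq_one_right ha
  have hexp : ∀ a : A, a * a = 1 := by
    intro a
    obtain ⟨j, hj⟩ := h'.pg a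
    induction j generalizing a with
    | zero => rw [pow_zero, pow_one] at hj; rw [hj, one_mul]
    | succ j ih =>
      refine hfour a (ih (a * a) ?_)
      rw [← pow_two, ← pow_mul, ← pow_succ']
      exact hj
  have hκs : Function.Surjective κ := fun t => by
    obtain ⟨c, hc, hct⟩ := h'.surj t
    exact ⟨w c, by show θ' _ = t; rw [(hw c hc).2, hct]⟩
  -- an equivariant additive section
  letI : Module (ZMod 2) (Additive A) := AddCommGroup.zmodModule (n := 2) (fun a => by
    rw [two_nsmul]; exact congrArg Additive.ofMul (hexp a.toMul))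
  letI : Algebra (ZMod 2) F := ZMod.algebra F 2
  let κl : Additive A →ₗ[ZMod 2] F := (AddMonoidHom.mk' (fun a : Additive A => κ a.toMul)
    (fun a b => hκm _ _)).toZModLinearMap 2
  obtain ⟨σl, hσl⟩ := κl.exists_rightInverse_of_surjective (LinearMap.range_eq_top.mpr fun t => by
    obtain ⟨a, ha⟩ := hκs t; exact ⟨Additive.ofMul a, ha⟩)
  let σ : F → A := fun t => (σl t).toMul
  have hσκ : ∀ t, κ (σ t) = t := fun t => LinearMap.congr_fun hσl t
  have hσm : ∀ s t, σ (s + t) = σ s * σ t := fun s t => by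
    show (σl (s + t)).toMul = _; rw [map_add]; rfl
  set N := Fintype.card F - 1 with hNdef
  have hωN : ω ^ N = 1 := FiniteField.pow_card_sub_one_eq_one ω hω.1
  let sct : F → A := fun t => ∏ i ∈ Finset.range N, (ρ' ^ i) (σ ((ω ^ i)⁻¹ * t))
  have hsm : ∀ s t, sct (s + t) = sct s * sct t := fun s t => by
    simp only [sct, ← Finset.prod_mul_distrib]
    refine Finset.prod_congr rfl fun i _ => ?_
    rw [mul_add, hσm, map_mul]
  have hsκ : ∀ t, κ (sct t) = t := by
    intro t
    have h1 : ∀ n : ℕ, κ (∏ i ∈ Finset.range n, (ρ' ^ i) (σ ((ω ^ i)⁻¹ * t))) = n • t := by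
      intro n
      induction n with
      | zero => simpa using hκ1
      | succ n ih =>
        rw [Finset.prod_range_succ, hκm, ih, hρpow' κ hκρ, hσκ, ← mul_assoc,
          mul_inv_cancel₀ (pow_ne_zero _ hω.1), one_mul, succ_nsmul]
    show κ (∏ i ∈ Finset.range N, _) = t
    rw [h1, nsmul_eq_mul, hNdef, Nat.cast_sub Fintype.card_pos, FiniteField.cast_card_eq_zero, zero_sub,
      Nat.cast_one, CharTwo.neg_eq, one_mul]
  have hsρ : ∀ t, ρ' (sct t) = sct (ω * t) := by
    intro t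
    let G : ℕ → A := fun i => (ρ' ^ i) (σ ((ω ^ i)⁻¹ * (ω * t)))
    have hG : ∀ i, G (i + 1) = ρ' ((ρ' ^ i) (σ ((ω ^ i)⁻¹ * t))) := by
      intro i
      show (ρ' ^ (i + 1)) _ = _
      rw [pow_succ' ρ', MulAut.mul_apply, pow_succ ω, mul_inv_rev, ← mul_assoc, mul_assoc ω⁻¹,
        mul_comm _ ω, ← mul_assoc, inv_mul_cancel₀ hω.1, one_mul]
    have hper : G N = G 0 := by
      show (ρ' ^ N) _ = (ρ' ^ 0) _
      rw [h'.period, hωN, pow_zero, pow_zero]
    show ρ' (∏ i ∈ Finset.range N, _) = ∏ i ∈ Finset.range N, G i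
    rw [map_prod]
    rw [Finset.prod_congr rfl fun i _ => (hG i).symm]
    have h1 := Finset.prod_range_succ G N
    rw [Finset.prod_range_succ', hper] at h1
    exact mul_right_cancel h1
  have hfixb : ∀ a, α' (a * sct (κ a)) = a * sct (κ a) := by
    intro a
    have hk0 : κ (a * sct (κ a)) = 0 := by rw [hκm, hsκ]; exact CharTwo.add_self_eq_zero _
    set b := a * sct (κ a)
    have h1 := h'.inj _ (hN b) hk0
    rw [mul_eq_one_iff_inv_eq] at h1
    rw [← h1]
    exact inv_eq_of_mul_eq_one_right (hexp b)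
  let π₀ : A → F × F := fun a => (θ' (a * sct (κ a)), κ a)
  have hπ₀m : ∀ a b, π₀ (a * b) = π₀ a + π₀ b := fun a b => by
    show (θ' _, κ _) = (θ' _ + θ' _, κ a + κ b)
    rw [hκm, hsm, mul_mul_mul_comm, h'.add _ _ (hfixb a) (hfixb b)]
  have hπ₀ρ : ∀ a, π₀ (ρ' a) = ω • π₀ a := fun a => by
    show (θ' _, κ _) = (ω * θ' _, ω * κ a)
    rw [hκρ, ← hsρ, ← map_mul, h'.equiv _ (hfixb a)]
  have hsct0 : sct 0 = 1 := by
    have e := hsm 0 0
    rw [add_zero] at e
    exact mul_eq_left.mp e.symm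
  have hπ₀i : ∀ a, π₀ a = 0 → a = 1 := fun a ha => by
    have h2 : κ a = 0 := congrArg Prod.snd ha
    have h1 : θ' (a * sct (κ a)) = 0 := congrArg Prod.fst ha
    have := h'.inj _ (hfixb a) h1
    rwa [h2, hsct0, mul_one] at this
  have hπ₀s : ∀ p : F × F, ∃ a, π₀ a = p := by
    rintro ⟨s, t⟩
    obtain ⟨c, hc, hcs⟩ := h'.surj s
    refine ⟨c * sct t, ?_⟩
    have hκc : κ c = 0 := by show θ' _ = 0; rw [hc, h'.sq_fix hc, h'.theta_one]
    have hk2 : κ (c * sct t) = t := by rw [hκm, hκc, hsκ, zero_add]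
    show (θ' _, κ _) = (s, t)
    rw [hk2, mul_assoc, hexp, mul_one, hcs]
  let π : Q → F × F := fun x => π₀ (mk x)
  have hπm : ∀ x y, π (x * y) = π x + π y := fun x y => by show π₀ _ = _; rw [map_mul, hπ₀m]
  have hπ1 : π₀ 1 = 0 := by
    have e := hπ₀m 1 1
    rw [mul_one] at e
    simpa using e.symm.trans (add_zero _).symm
  have hπk : ∀ x, π x = 0 ↔ α x = x := fun x =>
    ⟨fun e => (hmk x).mp (hπ₀i _ e), fun e => by show π₀ _ = 0; rw [(hmk x).mpr e, hπ1]⟩
  have hπρ : ∀ x, π (ρ x) = ω • π x := fun x => by show π₀ _ = _; rw [← hρ', hπ₀ρ]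
  have hπs : Function.Surjective π := fun p => by
    obtain ⟨a, ha⟩ := hπ₀s p
    obtain ⟨x, rfl⟩ := hmks a
    exact ⟨x, ha⟩
  have hsqf : ∀ x : Q, α (x * x) = x * x := fun x => (hmk _).mp (by rw [map_mul, hexp])
  -- the squaring map on coordinates
  obtain ⟨sec, hsec⟩ := hπs.hasRightInverse
  let Sq : F × F → F := fun p => θ (sec p * sec p)
  have hfac : ∀ x, ∃ c, α c = c ∧ x = sec (π x) * c := fun x => by
    refine ⟨(sec (π x))⁻¹ * x, (hπk _).mp ?_, (mul_inv_cancel_left _ _).symm⟩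
    have e := hπm (sec (π x)) ((sec (π x))⁻¹ * x)
    rw [mul_inv_cancel_left, hsec] at e
    simpa using e.symm.trans (add_zero _).symm
  have hSq : ∀ x, θ (x * x) = Sq (π x) := by
    intro x
    obtain ⟨c, hc, hxc⟩ := hfac x
    show _ = θ _
    congr 1
    conv_lhs => rw [hxc]
    rw [mul_assoc, ← mul_assoc c, ← h.central hω hc (sec (π x)), mul_assoc, h.sq_fix hc, mul_one]
  let B : F × F → F × F → F := fun p p' => θ (⁅sec p, sec p'⁆ : Q)
  have hBb : ∀ x y : Q, θ ⁅x, y⁆ = B (π x) (π y) := by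
    intro x y
    obtain ⟨c, hc, hxc⟩ := hfac x
    obtain ⟨d, hd, hyd⟩ := hfac y
    conv_lhs => rw [hxc, hyd, comm_eq_of_central' (fun z => h.central hω hc z),
      comm_eq_of_central (fun z => h.central hω hd z)]
  have hBl : ∀ p p' r, B (p + p') r = B p r + B p' r := fun p p' r => by
    have e := hBb (sec p * sec p') (sec r)
    rw [hπm, hsec, hsec, hsec, comm_mul_left (hcen _ _), h.add _ _ (hcQ _ _) (hcQ _ _)] at e
    rw [← e, add_comm]
  have hBr : ∀ r p p', B r (p + p') = B r p + B r p' := fun r p p' => by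
    have e := hBb (sec r) (sec p * sec p')
    rw [hπm, hsec, hsec, hsec, comm_mul_right (hcen _ _), h.add _ _ (hcQ _ _) (hcQ _ _)] at e
    exact e.symm
  have hpol : ∀ p p', Sq (p + p') = Sq p + Sq p' + B p' p := by
    intro p p'
    have e := hSq (sec p * sec p')
    rw [hπm, hsec, hsec] at e
    rw [← e]
    have : sec p * sec p' * (sec p * sec p') =
        sec p * (⁅sec p', sec p⁆ * sec p) * (sec p' * sec p') := by
      rw [commutatorElement_def]; group
    rw [this, ← mul_assoc (sec p), hcen (sec p') (sec p) (sec p), mul_assoc ⁅sec p', sec p⁆,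
      mul_assoc ⁅sec p', sec p⁆, h.add _ _ (hcQ _ _) (h.fix_mul (hsqf _) (hsqf _)),
      h.add _ _ (hsqf _) (hsqf _)]
    show B p' p + (Sq p + Sq p') = _
    ring
  have hSqρ : ∀ p, Sq (ω • p) = ω * Sq p := fun p => by
    have e := hSq (ρ (sec p))
    rw [hπρ, hsec, ← map_mul, h.equiv _ (hsqf _)] at e
    exact e.symm
  have hSq0 : Sq 0 = 0 := by
    have e := hSq 1
    rw [mul_one, h.theta_one, show π 1 = 0 from (hπk 1).mpr (map_one α)] at e
    exact e.symm
  have hSqsmul : ∀ (t : F) p, Sq (t • p) = t * Sq p := by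
    intro t p
    by_cases ht : t = 0
    · rw [ht, zero_smul, zero_mul, hSq0]
    obtain ⟨i, rfl⟩ := hω.2 t ht
    induction i with
    | zero => simp
    | succ i ih => rw [pow_succ', mul_smul, hSqρ, ih (pow_ne_zero _ hω.1), ← mul_assoc]
  obtain ⟨-, hh⟩ := hform hω (fun s t => B ((0 : F), t) (s, 0))
    (fun s s' t => by show B _ _ = _; rw [← hBr]; simp)
    (fun s t t' => by show B _ _ = _; rw [← hBl]; simp)
    (fun s t => by
      have e := hBb (ρ (sec ((0 : F), t))) (ρ (sec (s, (0 : F))))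
      rw [hπρ, hπρ, hsec, hsec, ← map_commutatorElement, h.equiv _ (hcQ _ _)] at e
      show B _ _ = ω * B _ _
      rw [show B ((0 : F), t) (s, 0) = θ ⁅sec ((0 : F), t), sec (s, (0 : F))⁆ from rfl, e]
      simp)
  set k := B ((0 : F), 1) (1, 0) * B ((0 : F), 1) (1, 0) with hk
  have hP : ∀ a b : F, Sq (a, b) * Sq (a, b) = Sq (1, 0) * Sq (1, 0) * (a * a) +
      Sq (0, 1) * Sq (0, 1) * (b * b) + k * (a * b) := by
    intro a b
    have e : Sq (a, b) = a * Sq (1, 0) + b * Sq (0, 1) + B ((0 : F), b) (a, 0) := by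
      have e0 := hpol (a, (0 : F)) ((0 : F), b)
      have e1 := hSqsmul a ((1 : F), (0 : F))
      have e2 := hSqsmul b ((0 : F), (1 : F))
      simp only [Prod.smul_mk, smul_eq_mul, mul_one, mul_zero] at e1 e2
      simp only [Prod.mk_add_mk, add_zero, zero_add] at e0
      rw [e0, e1, e2]
    have h2 : B ((0 : F), b) (a, 0) * B ((0 : F), b) (a, 0) = k * (a * b) := hh a b
    rw [e, ← h2]
    linear_combination (a * Sq (1, 0) * (b * Sq (0, 1)) + a * Sq (1, 0) * B ((0 : F), b) (a, 0) +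
      b * Sq (0, 1) * B ((0 : F), b) (a, 0)) * (CharTwo.two_eq_zero (R := F))
  by_cases hk0 : k = 0
  · left
    intro x y
    rw [← commutatorElement_eq_one_iff_mul_comm]
    refine h.inj _ (hcQ _ _) ?_
    rw [hBb]
    have hadd : ∀ p p' : F × F, Sq (p + p') = Sq p + Sq p' := by
      intro p p'
      have sqadd : Sq (p + p') * Sq (p + p') = (Sq p + Sq p') * (Sq p + Sq p') := by
        rw [show p + p' = (p.1 + p'.1, p.2 + p'.2) from rfl, hP]
        have h1 := hP p.1 p.2
        have h2 := hP p'.1 p'.2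
        rw [hk0] at h1 h2 ⊢
        simp only [Prod.mk.eta] at h1 h2
        linear_combination -h1 - h2 + (Sq (1, 0) * Sq (1, 0) * (p.1 * p'.1) + Sq (0, 1) * Sq (0, 1) * (p.2 * p'.2)
          - Sq p * Sq p') * (CharTwo.two_eq_zero (R := F))
      have h0 : (Sq (p + p') + (Sq p + Sq p')) * (Sq (p + p') + (Sq p + Sq p')) = 0 := by
        linear_combination sqadd + ((Sq p + Sq p') * (Sq p + Sq p') + Sq (p + p') * (Sq p + Sq p')) *
          (CharTwo.two_eq_zero (R := F))
      exact CharTwo.add_eq_zero.mp (mul_self_eq_zero.mp h0)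
    have := hpol (π y) (π x)
    rw [hadd] at this
    exact left_eq_add.mp this
  right
  exact ⟨π, _, _, k, hk0, hπm, hπs, hπk, hπρ, hsqf, fun x => by rw [hSq]; exact hP (π x).1 (π x).2⟩

end Cfsg.Agent.Invol.SuzTwo
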