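import Mathlib

/-!
# Semilinear forms and comparison of central extensions of exponent four

Tools for the classification of 2-groups with an involutory automorphism whose fixed points
form an elementary abelian group permuted transitively by a commuting automorphism.
-/

set_option autoImplicit false

namespace Cfsg.Agent.Invol.SuzTwo

/-- Two central extensions with the same squaring map are isomorphic. -/
theorem iso_of_sq {G H : Type*} [Group G] [Group H] [Finite G] [Finite H]
    {V T : Type*} [AddCommGroup V] [AddCommGroup T]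
    (πG : G → V) (θG : G → T) (πH : H → V) (θH : H → T)
    (hπGm : ∀ x y, πG (x * y) = πG x + πG y) (hπHm : ∀ x y, πH (x * y) = πH x + πH y)
    (hπGs : Function.Surjective πG) (hπHs : Function.Surjective πH)
    (hGc : ∀ c, πG c = 0 → ∀ x, x * c = c * x) (hHc : ∀ c, πH c = 0 → ∀ x, x * c = c * x)
    (hθGm : ∀ x y, πG x = 0 → πG y = 0 → θG (x * y) = θG x + θG y)
    (hθHm : ∀ x y, πH x = 0 → πH y = 0 → θH (x * y) = θH x + θH y)
    (hθGi : ∀ x, πG x = 0 → θG x = 0 → x = 1) (hθHi : ∀ x, πH x = 0 → θH x = 0 → x = 1)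
    (himg : ∀ t, (∃ x, πG x = 0 ∧ θG x = t) ↔ (∃ y, πH y = 0 ∧ θH y = t))
    (hVG : ∀ x, πG (x * x) = 0) (hVH : ∀ x, πH (x * x) = 0)
    (hsq : ∀ x y, πG x = πH y → θG (x * x) = θH (y * y)) : Nonempty (G ≃* H) := by
  classical
  have hπG1 : πG 1 = 0 := by
    have h := hπGm 1 1
    rw [mul_one] at h
    simpa using h.symm.trans (add_zero _).symm
  have hπH1 : πH 1 = 0 := by
    have h := hπHm 1 1
    rw [mul_one] at h
    simpa using h.symm.trans (add_zero _).symm
  have hθG1 : θG 1 = 0 := by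
    have h := hθGm 1 1 hπG1 hπG1
    rw [mul_one] at h
    simpa using h.symm.trans (add_zero _).symm
  have hθH1 : θH 1 = 0 := by
    have h := hθHm 1 1 hπH1 hπH1
    rw [mul_one] at h
    simpa using h.symm.trans (add_zero _).symm
  let P : Subgroup (G × H) :=
    { carrier := {z | πG z.1 = πH z.2}
      mul_mem' := fun {a b} ha hb => by
        show πG (a.1 * b.1) = πH (a.2 * b.2)
        rw [hπGm, hπHm, show πG a.1 = πH a.2 from ha, show πG b.1 = πH b.2 from hb]
      one_mem' := by show πG 1 = πH 1; rw [hπG1, hπH1]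
      inv_mem' := fun {a} ha => by
        show πG a.1⁻¹ = πH a.2⁻¹
        have h1 := hπGm a.1 a.1⁻¹
        have h2 := hπHm a.2 a.2⁻¹
        rw [mul_inv_cancel, hπG1] at h1
        rw [mul_inv_cancel, hπH1] at h2
        rw [show πG a.1 = πH a.2 from ha] at h1
        exact add_left_cancel (h1.symm.trans h2) }
  have hP : ∀ z : G × H, z ∈ P ↔ πG z.1 = πH z.2 := fun z => Iff.rfl
  let Δ : Set (G × H) := {z | πG z.1 = 0 ∧ πH z.2 = 0 ∧ θG z.1 = θH z.2}
  have hΔc : ∀ z ∈ Δ, ∀ a : G × H, a * z = z * a := fun z hz a =>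
    Prod.ext (hGc _ hz.1 _) (hHc _ hz.2.1 _)
  have hΔsq : ∀ z ∈ P, z * z ∈ Δ := fun z hz => ⟨hVG _, hVH _, hsq _ _ hz⟩
  let good : Subgroup (G × H) → Prop := fun W => Δ ⊆ W ∧ W ≤ P ∧ ∀ c, (c, (1 : H)) ∈ W → c = 1
  let W₀ : Subgroup (G × H) :=
    { carrier := Δ
      mul_mem' := fun {a b} ha hb => by
        refine ⟨?_, ?_, ?_⟩
        · show πG (a.1 * b.1) = 0; rw [hπGm, ha.1, hb.1, add_zero]
        · show πH (a.2 * b.2) = 0; rw [hπHm, ha.2.1, hb.2.1, add_zero]
        · show θG (a.1 * b.1) = θH (a.2 * b.2)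
          rw [hθGm _ _ ha.1 hb.1, hθHm _ _ ha.2.1 hb.2.1, ha.2.2, hb.2.2]
      one_mem' := ⟨hπG1, hπH1, by show θG 1 = θH 1; rw [hθG1, hθH1]⟩
      inv_mem' := fun {a} ha => by
        have hg : πG a.1⁻¹ = 0 := by
          have h := hπGm a.1 a.1⁻¹
          rw [mul_inv_cancel, hπG1, ha.1, zero_add] at h
          exact h.symm
        have hh : πH a.2⁻¹ = 0 := by
          have h := hπHm a.2 a.2⁻¹
          rw [mul_inv_cancel, hπH1, ha.2.1, zero_add] at h
          exact h.symm
        refine ⟨hg, hh, ?_⟩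
        have h1 := hθGm _ _ ha.1 hg
        have h2 := hθHm _ _ ha.2.1 hh
        rw [mul_inv_cancel, hθG1, ha.2.2] at h1
        rw [mul_inv_cancel, hθH1] at h2
        exact add_left_cancel (h1.symm.trans h2) }
  have hW₀ : good W₀ := by
    refine ⟨subset_refl _, fun z hz => ?_, fun c hc => ?_⟩
    · rw [hP, hz.1, hz.2.1]
    · exact hθGi c hc.1 (hc.2.2.trans hθH1)
  obtain ⟨W, hW, hmax⟩ : ∃ W, good W ∧ ∀ W', good W' → Nat.card W' ≤ Nat.card W := by
    obtain ⟨W, hW, hm⟩ := (Set.toFinite {W | good W}).exists_maximalFor (fun W : Subgroup (G × H) => Nat.card W) _ ⟨W₀, hW₀⟩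
    exact ⟨W, hW, fun W' hW' => (le_total _ _).elim id (fun h => hm hW' h)⟩
  obtain ⟨hWΔ, hWP, hWi⟩ := hW
  have hsurj : ∀ x : G, ∃ y : H, (x, y) ∈ W := by
    intro x
    by_contra hno
    obtain ⟨y, hy⟩ := hπHs (πG x)
    set z : G × H := (x, y) with hzdef
    have hzP : z ∈ P := hy.symm
    have hzW : ∀ w ∈ W, πG (w * z).1 ≠ 0 := by
      intro w hw h0
      have hw' := (hP _).mp (hWP hw)
      refine hno ?_
      obtain ⟨d, hd0, hdt⟩ := (himg (θG (w * z).1)).mp ⟨_, h0, rfl⟩
      have hδ : ((w * z).1, d) ∈ W := hWΔ ⟨h0, hd0, hdt.symm⟩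
      exact ⟨w.2⁻¹ * d, by
        have h := W.mul_mem (W.inv_mem hw) hδ
        convert h using 1
        exact Prod.ext (by simp [z]) rfl⟩
    have hWn : ∀ w ∈ W, z * w * z⁻¹ ∈ W := by
      intro w hw
      have h1 : (z * w) * (z * w) ∈ W := hWΔ (hΔsq _ (P.mul_mem hzP (hWP hw)))
      have h2 : z * z ∈ W := hWΔ (hΔsq _ hzP)
      have : z * w * z⁻¹ = (z * w) * (z * w) * w⁻¹ * (z * z)⁻¹ := by group
      rw [this]
      exact W.mul_mem (W.mul_mem h1 (W.inv_mem hw)) (W.inv_mem h2)
    have hzz : z * z ∈ W := hWΔ (hΔsq _ hzP)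
    let W' : Subgroup (G × H) :=
      { carrier := {a | a ∈ W ∨ a * z⁻¹ ∈ W}
        one_mem' := Or.inl W.one_mem
        mul_mem' := fun {a b} ha hb => by
          rcases ha with ha | ha <;> rcases hb with hb | hb
          · exact Or.inl (W.mul_mem ha hb)
          · exact Or.inr (by rw [mul_assoc]; exact W.mul_mem ha hb)
          · refine Or.inr ?_
            have : a * b * z⁻¹ = (a * z⁻¹) * (z * b * z⁻¹) := by group
            rw [this]; exact W.mul_mem ha (hWn b hb)
          · refine Or.inl ?_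
            have : a * b = (a * z⁻¹) * (z * (b * z⁻¹) * z⁻¹) * (z * z) := by group
            rw [this]; exact W.mul_mem (W.mul_mem ha (hWn _ hb)) hzz
        inv_mem' := fun {a} ha => by
          rcases ha with ha | ha
          · exact Or.inl (W.inv_mem ha)
          · refine Or.inr ?_
            have : a⁻¹ * z⁻¹ = (z * z)⁻¹ * (z * (a * z⁻¹)⁻¹ * z⁻¹) := by group
            rw [this]
            exact W.mul_mem (W.inv_mem hzz) (hWn _ (W.inv_mem ha)) }
    have hgood : good W' := by
      refine ⟨fun d hd => Or.inl (hWΔ hd), fun a ha => ?_, fun c hc => ?_⟩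
      · rcases ha with ha | ha
        · exact hWP ha
        · simpa using P.mul_mem (hWP ha) hzP
      · rcases hc with hc | hc
        · exact hWi c hc
        · exfalso
          refine hzW _ hc ?_
          rw [inv_mul_cancel_right]
          have hcP : (c, (1 : H)) ∈ P := by
            simpa using P.mul_mem (hWP hc) hzP
          exact ((hP _).mp hcP).trans hπH1
    have hlt : W < W' := by
      refine lt_of_le_of_ne (fun a ha => Or.inl ha) (fun heq => ?_)
      have : z ∈ W := by rw [heq]; exact Or.inr (by simp)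
      exact hno ⟨y, this⟩
    have := hmax W' hgood
    exact absurd (Subgroup.eq_of_le_of_card_ge hlt.le this) hlt.ne
  have hker : ∀ d, ((1 : G), d) ∈ W → d = 1 := by
    intro d hd
    have hd0 : πH d = 0 := ((hP _).mp (hWP hd)).symm.trans hπG1
    obtain ⟨c, hc0, hct⟩ := (himg (θH d)).mpr ⟨d, hd0, rfl⟩
    have hcd : (c, d) ∈ W := hWΔ ⟨hc0, hd0, hct⟩
    have := hWi c (by simpa using W.mul_mem hcd (W.inv_mem hd))
    rw [this, hθG1] at hct
    exact hθHi d hd0 hct.symm
  choose φ hφ using hsurj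
  have huniq : ∀ x y, (x, y) ∈ W → y = φ x := by
    intro x y h
    have := hker ((φ x)⁻¹ * y) (by simpa using W.mul_mem (W.inv_mem (hφ x)) h)
    exact (inv_mul_eq_one.mp this).symm
  have hmul : ∀ a b, φ (a * b) = φ a * φ b := fun a b =>
    (huniq _ _ (by simpa using W.mul_mem (hφ a) (hφ b))).symm
  refine ⟨MulEquiv.ofBijective (MonoidHom.mk' φ hmul) ⟨?_, ?_⟩⟩
  · refine (injective_iff_map_eq_one _).mpr fun a ha => hWi a ?_
    have := hφ a
    rwa [show φ a = 1 from ha] at this
  · intro y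
    obtain ⟨x, hx⟩ := hπGs (πH y)
    have hφx := (hP _).mp (hWP (hφ x))
    have h0 : πH ((φ x)⁻¹ * y) = 0 := by
      have h := hπHm (φ x) ((φ x)⁻¹ * y)
      rw [mul_inv_cancel_left, ← hφx, show πG x = πH y from hx] at h
      simpa using h.symm.trans (add_zero _).symm
    obtain ⟨c, hc0, hct⟩ := (himg (θH ((φ x)⁻¹ * y))).mpr ⟨_, h0, rfl⟩
    refine ⟨x * c, ?_⟩
    show φ (x * c) = y
    refine (huniq _ _ ?_).symm
    have := W.mul_mem (hφ x) (hWΔ (a := (c, (φ x)⁻¹ * y)) ⟨hc0, h0, hct⟩)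
    simpa using this

variable {F : Type*} [Field F]

/-- `ω` generates the multiplicative group of `F`. -/
def IsGen (ω : F) : Prop := ω ≠ 0 ∧ ∀ t : F, t ≠ 0 → ∃ i : ℕ, ω ^ i = t

theorem sqrt_exists [Finite F] [CharP F 2] (t : F) : ∃ y : F, y * y = t := by
  have hinj : Function.Injective (fun y : F => y * y) := by
    intro a b h
    simp only at h
    have h2 : (a + b) * (a + b) = 0 := by linear_combination h + 2 * CharTwo.two_eq_zero (R := F) * 0 + (a * b) * (CharTwo.two_eq_zero (R := F)) + (b * b) * (CharTwo.two_eq_zero (R := F))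
    exact CharTwo.add_eq_zero.mp (mul_self_eq_zero.mp h2)
  exact (Finite.injective_iff_surjective.mp hinj) t

/-- A biadditive map homogeneous of degree one is a multiple of the square root of the product. -/
theorem hform [Finite F] [CharP F 2] {ω : F} (hω : IsGen ω) (h : F → F → F)
    (hl : ∀ s s' t, h (s + s') t = h s t + h s' t) (hr : ∀ s t t', h s (t + t') = h s t + h s t')
    (he : ∀ s t, h (ω * s) (ω * t) = ω * h s t) :
    (∀ r s t, h (r * s) (r * t) = r * h s t) ∧ ∀ s t, h s t * h s t = h 1 1 * h 1 1 * (s * t) := by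
  have h0l : ∀ t, h 0 t = 0 := fun t => by
    have := hl 0 0 t
    rw [add_zero] at this
    simpa using this
  have h0r : ∀ s, h s 0 = 0 := fun s => by
    have := hr s 0 0
    rw [add_zero] at this
    simpa using this
  have hscal : ∀ r s t, h (r * s) (r * t) = r * h s t := by
    intro r s t
    by_cases hr0 : r = 0
    · simp [hr0, h0l]
    obtain ⟨i, rfl⟩ := hω.2 r hr0
    induction i generalizing s t with
    | zero => simp
    | succ k ih => rw [pow_succ', mul_assoc, mul_assoc, he, ih _ _ (pow_ne_zero _ hω.1), ← mul_assoc]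
  refine ⟨hscal, ?_⟩
  have hg : ∀ s t, s ≠ 0 → h s t = s * h 1 (t / s) := by
    intro s t hs
    have := hscal s 1 (t / s)
    rwa [mul_one, mul_div_cancel₀ _ hs] at this
  have hgsq : ∀ x, h 1 (x * x) = x * h 1 1 := by
    intro x
    by_cases hx : x = 0
    · simp [hx, h0r]
    by_cases hx1 : (1 : F) + x = 0
    · have : x = 1 := (CharTwo.add_eq_zero.mp hx1).symm
      simp [this]
    have key : ∀ t, (1 + x) * h 1 (t / (1 + x)) = h 1 t + x * h 1 (t / x) := fun t => by
      rw [← hg _ _ hx1, ← hg _ _ hx, ← hl]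
    have hA := key x
    have hB := key (x * x)
    rw [div_self hx] at hA
    rw [mul_div_cancel_right₀ x hx] at hB
    have hsplit : x * x / (1 + x) = x + x / (1 + x) := by
      rw [div_eq_iff hx1, add_mul, div_mul_cancel₀ _ hx1]
      linear_combination (-(x : F)) * (CharTwo.two_eq_zero (R := F))
    rw [hsplit, hr, mul_add, hA] at hB
    linear_combination -hB + (h 1 x) * (CharTwo.two_eq_zero (R := F))
  intro s t
  by_cases hs : s = 0
  · simp [hs, h0l]
  obtain ⟨y, hy⟩ := sqrt_exists (t / s)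
  rw [hg s t hs, ← hy, hgsq]
  have : t = s * (y * y) := by rw [hy, mul_div_cancel₀ _ hs]
  rw [this]
  ring

end Cfsg.Agent.Invol.SuzTwo
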