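import Cfsg.Agent.Lib.Invol.SuzTwo.Quot

/-!
# The quotient by the fixed points cannot itself have the nonabelian shape
-/

set_option autoImplicit false

namespace Cfsg.Agent.Invol.SuzTwo

open scoped commutatorElement

universe u

variable {Q : Type u} [Group Q] {α ρ : MulAut Q} {F : Type*} [Field F] [Fintype F] [CharP F 2] {ω : F}
  {θ : Q → F} [Finite Q] {A : Type*} [Group A] [Finite A] {α' ρ' : MulAut A} {θ' : A → F}

theorem exclude (h : Hyp α ρ ω θ) (hω : IsGen ω) (hq : 3 ≤ Fintype.card F) (mk : Q →* A)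
    (hmks : Function.Surjective mk) (hmk : ∀ x, mk x = 1 ↔ α x = x)
    (hα' : ∀ x, α' (mk x) = mk (α x)) (hρ' : ∀ x, ρ' (mk x) = mk (ρ x)) (h' : Hyp α' ρ' ω θ')
    (hfix : ∀ x, α' (mk x) = mk x ↔ α (defect α x) = defect α x)
    (hθ' : ∀ x, θ' (mk x) = θ (defect α x)) (hS : Shape α' ρ' ω θ') : False := by
  classical
  obtain ⟨π₀, u, v, k, hk, hπm, hπs, hπ0, hπρ, hsqA, hP⟩ := hS
  let π : Q → F × F := fun x => π₀ (mk x)
  have hπmul : ∀ x y, π (x * y) = π x + π y := fun x y => by
    show π₀ (mk (x * y)) = _; rw [map_mul, hπm]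
  have hπker : ∀ x, π x = 0 ↔ α' (mk x) = mk x := fun x => hπ0 _
  have hπs' : Function.Surjective π := hπs.comp hmks
  obtain ⟨sec, hsec⟩ := hπs'.hasRightInverse
  have hπ1 : π 1 = 0 := (hπker 1).mpr (by rw [map_one, map_one])
  have hπinv : ∀ x, π x⁻¹ = π x := fun x => by
    have e := hπmul x⁻¹ x
    rw [inv_mul_cancel, hπ1] at e
    have : π x⁻¹ = -π x := eq_neg_of_add_eq_zero_left e.symm
    rw [this]
    exact Prod.ext (CharTwo.neg_eq _) (CharTwo.neg_eq _)
  have hπαρ : ∀ x, π (ρ x) = ω • π x := fun x => by show π₀ (mk (ρ x)) = _; rw [← hρ', hπρ]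
  have hC : ∀ c, α c = c → ∀ z, z * c = c * z := fun c hc z => h.central hω hc z
  -- the fixed part
  choose dd₀ hdd₀ hdd₀' using h'.surj
  choose dd hdd using fun s => hmks (dd₀ s)
  have hddD : ∀ s, π (dd s) = 0 := fun s => (hπker _).mpr (by rw [hdd]; exact hdd₀ s)
  have hddθ : ∀ s, θ' (mk (dd s)) = s := fun s => by rw [hdd]; exact hdd₀' s
  have hbr : ∀ d x : Q, π d = 0 → α ⁅d, x⁆ = ⁅d, x⁆ := by
    intro d x hd
    rw [← hmk, map_commutatorElement]
    exact commutatorElement_eq_one_iff_mul_comm.mpr (h'.central hω ((hπker d).mp hd) (mk x)).symm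
  have hDfac : ∀ d, π d = 0 → ∃ c, α c = c ∧ d = dd (θ' (mk d)) * c := by
    intro d hd
    refine ⟨(dd (θ' (mk d)))⁻¹ * d, ?_, (mul_inv_cancel_left _ _).symm⟩
    rw [← hmk, map_mul, map_inv, inv_mul_eq_one]
    exact h'.eq_of_theta ((hπker _).mp (hddD _)) ((hπker _).mp hd) (hddθ _)
  have hbl : ∀ d x, π d = 0 → θ ⁅d, x⁆ = θ ⁅dd (θ' (mk d)), x⁆ := by
    intro d x hd
    obtain ⟨c, hc, hdc⟩ := hDfac d hd
    conv_lhs => rw [hdc, comm_eq_of_central' (hC c hc)]
  have hblm : ∀ d d' x, π d = 0 → π d' = 0 → θ ⁅d * d', x⁆ = θ ⁅d', x⁆ + θ ⁅d, x⁆ := by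
    intro d d' x hd hd'
    rw [comm_mul_left (hC _ (hbr d' x hd')), h.add _ _ (hbr d' x hd') (hbr d x hd)]
  have hblr : ∀ d x y, π d = 0 → θ ⁅d, x * y⁆ = θ ⁅d, x⁆ + θ ⁅d, y⁆ := by
    intro d x y hd
    rw [comm_mul_right (hC _ (hbr d y hd)), h.add _ _ (hbr d x hd) (hbr d y hd)]
  have hρb : ∀ d x, π d = 0 → θ ⁅ρ d, ρ x⁆ = ω * θ ⁅d, x⁆ := by
    intro d x hd
    rw [← map_commutatorElement ρ d x, h.equiv _ (hbr d x hd)]
  have hdmul : ∀ s s' x, θ ⁅dd (s + s'), x⁆ = θ ⁅dd s, x⁆ + θ ⁅dd s', x⁆ := by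
    intro s s' x
    have e := hbl (dd s * dd s') x (by rw [hπmul, hddD, hddD, add_zero])
    rw [hblm _ _ _ (hddD _) (hddD _), map_mul,
      h'.add _ _ ((hπker _).mp (hddD _)) ((hπker _).mp (hddD _)), hddθ, hddθ] at e
    rw [← e, add_comm]
  have hdrho : ∀ s x, θ ⁅dd (ω * s), ρ x⁆ = ω * θ ⁅dd s, x⁆ := by
    intro s x
    rw [← hρb _ _ (hddD s)]
    have e := hbl (ρ (dd s)) (ρ x) (by rw [hπαρ, hddD, smul_zero])
    rw [← hρ', h'.equiv _ ((hπker _).mp (hddD _)), hddθ] at e
    exact e.symm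
  -- the preimage of the fixed points is abelian
  have hDab : ∀ d e, π d = 0 → π e = 0 → θ ⁅d, e⁆ = 0 := by
    intro d e hd he
    have hswap : ∀ s y, π y = 0 → θ ⁅dd s, y⁆ = θ ⁅dd s, dd (θ' (mk y))⁆ := by
      intro s y hy
      obtain ⟨c, hc, hyc⟩ := hDfac y hy
      conv_lhs => rw [hyc, comm_eq_of_central (hC c hc)]
    obtain ⟨hh1, hh2⟩ := hform hω (fun s t => θ ⁅dd s, dd t⁆) (fun s s' t => hdmul s s' _)
      (fun s t t' => by
        have e := hswap s (dd t * dd t') (by rw [hπmul, hddD, hddD, add_zero])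
        rw [hblr _ _ _ (hddD _), map_mul, h'.add _ _ ((hπker _).mp (hddD _)) ((hπker _).mp (hddD _)),
          hddθ, hddθ] at e
        exact e.symm)
      (fun s t => by
        have e := hswap (ω * s) (ρ (dd t)) (by rw [hπαρ, hddD, smul_zero])
        rw [hdrho, ← hρ', h'.equiv _ ((hπker _).mp (hddD _)), hddθ] at e
        exact e.symm)
    have h11 : θ ⁅dd 1, dd 1⁆ = 0 := by
      rw [commutatorElement_self]; exact h.theta_one
    have := hh2 (θ' (mk d)) (θ' (mk e))
    rw [h11, zero_mul, zero_mul] at this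
    rw [hbl d e hd, hswap _ e he]
    exact mul_self_eq_zero.mp this
  have hπfac : ∀ x y, π x = π y → ∃ e, π e = 0 ∧ y = x * e := fun x y hxy =>
    ⟨x⁻¹ * y, by rw [hπmul, hπinv, hxy]; exact Prod.ext (CharTwo.add_self_eq_zero _) (CharTwo.add_self_eq_zero _),
      (mul_inv_cancel_left _ _).symm⟩
  have hlx : ∀ s x y, π x = π y → θ ⁅dd s, x⁆ = θ ⁅dd s, y⁆ := by
    intro s x y hxy
    obtain ⟨e, he, rfl⟩ := hπfac x y hxy
    rw [hblr _ _ _ (hddD _), hDab _ _ (hddD _) he, add_zero]
  let K : F × F → F := fun w => θ ⁅dd 1, sec w⁆ * θ ⁅dd 1, sec w⁆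
  have hsecm : ∀ s w w', θ ⁅dd s, sec (w + w')⁆ = θ ⁅dd s, sec w⁆ + θ ⁅dd s, sec w'⁆ := by
    intro s w w'
    rw [← hblr _ _ _ (hddD _)]
    exact hlx _ _ _ (by rw [hπmul, hsec, hsec, hsec])
  have hL : ∀ w : F × F, ∀ s t : F, θ ⁅dd s, sec (t • w)⁆ * θ ⁅dd s, sec (t • w)⁆ = K w * (s * t) := by
    intro w
    obtain ⟨-, hh2⟩ := hform hω (fun s t => θ ⁅dd s, sec (t • w)⁆) (fun s s' t => hdmul s s' _)
      (fun s t t' => by simp only [add_smul]; exact hsecm _ _ _)
      (fun s t => by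
        have e : θ ⁅dd (ω * s), sec ((ω * t) • w)⁆ = θ ⁅dd (ω * s), ρ (sec (t • w))⁆ :=
          hlx _ _ _ (by rw [hπαρ, hsec, hsec, smul_smul])
        show θ ⁅dd (ω * s), sec ((ω * t) • w)⁆ = _
        rw [e, hdrho])
    intro s t
    have := hh2 s t
    simp only [one_smul] at this
    exact this
  have hKadd : ∀ w w', K (w + w') = K w + K w' := by
    intro w w'
    show θ _ * θ _ = _
    rw [hsecm]
    linear_combination (θ ⁅dd 1, sec w⁆ * θ ⁅dd 1, sec w'⁆) * (CharTwo.two_eq_zero (R := F))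
  have hKsmul : ∀ w t, K (t • w) = K w * t := fun w t => by
    have := hL w 1 t
    rwa [one_mul] at this
  have hrel : ∀ a b : F, (a * K (1, 0) + b * K (0, 1)) * (u * (a * a) + v * (b * b) + k * (a * b)) = 0 := by
    intro a b
    have hx : π (sec (a, b)) = (a, b) := hsec _
    set x := sec (a, b) with hxdef
    have hxx : π (x * x) = 0 := by
      rw [hπmul]; exact Prod.ext (CharTwo.add_self_eq_zero _) (CharTwo.add_self_eq_zero _)
    have e1 : θ ⁅dd (θ' (mk (x * x))), x⁆ = 0 := by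
      rw [← hbl _ _ hxx, commutatorElement_eq_one_iff_mul_comm.mpr (mul_assoc x x x), h.theta_one]
    have e2 := hL (a, b) (θ' (mk (x * x))) 1
    rw [one_smul, ← hxdef, e1, mul_zero, mul_one] at e2
    have e3 := hP (mk x)
    rw [← map_mul, show π₀ (mk x) = (a, b) from hx] at e3
    simp only at e3
    rw [← e3]
    have hdec : (a, b) = a • ((1 : F), (0 : F)) + b • ((0 : F), (1 : F)) := by ext <;> simp
    have hK : K (a, b) = a * K (1, 0) + b * K (0, 1) := by
      rw [hdec, hKadd, hKsmul, hKsmul]; ring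
    rw [← hK, ← mul_assoc, ← e2, zero_mul]
  have hK0 : K (1, 0) = 0 ∧ K (0, 1) = 0 := by
    obtain ⟨c, hc0, hc1⟩ : ∃ c : F, c ≠ 0 ∧ c ≠ 1 := by
      obtain ⟨c, -, hc⟩ := Finset.exists_mem_notMem_of_card_lt_card (s := ({0, 1} : Finset F)) (t := Finset.univ)
        (by rw [Finset.card_univ]; exact lt_of_le_of_lt Finset.card_le_two (by omega))
      simp only [Finset.mem_insert, Finset.mem_singleton, not_or] at hc
      exact ⟨c, hc.1, hc.2⟩
    have r10 := hrel 1 0
    have r01 := hrel 0 1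
    have r11 := hrel 1 1
    have rc := hrel 1 c
    simp only [one_mul, mul_one, zero_mul, mul_zero, add_zero, zero_add] at r10 r01 r11 rc
    rcases eq_or_ne (K (1, 0)) 0 with e1 | e1 <;> rcases eq_or_ne (K (0, 1)) 0 with e2 | e2
    · exact ⟨e1, e2⟩
    · exfalso
      have hv : v = 0 := (mul_eq_zero.mp r01).resolve_left e2
      rw [e1, hv] at r11 rc
      simp only [zero_add, zero_mul, add_zero, mul_eq_zero, e2, hc0, false_or, or_false] at r11 rc
      have h3 : k * (c + 1) = 0 := by linear_combination rc - r11 + k * (CharTwo.two_eq_zero (R := F))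
      rcases mul_eq_zero.mp h3 with h4 | h4
      · exact hk h4
      · exact hc1 (CharTwo.add_eq_zero.mp h4)
    · exfalso
      have hu : u = 0 := (mul_eq_zero.mp r10).resolve_left e1
      rw [e2, hu] at r11 rc
      simp only [zero_add, zero_mul, mul_zero, add_zero, mul_eq_zero, e1, false_or, or_false] at r11 rc
      have h3 : k * (c * (c + 1)) = 0 := by
        linear_combination (c * c) * r11 - rc + (k * c) * (CharTwo.two_eq_zero (R := F))
      rcases mul_eq_zero.mp h3 with h4 | h4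
      · exact hk h4
      rcases mul_eq_zero.mp h4 with h5 | h5
      · exact hc0 h5
      · exact hc1 (CharTwo.add_eq_zero.mp h5)
    · exfalso
      have hu : u = 0 := (mul_eq_zero.mp r10).resolve_left e1
      have hv : v = 0 := (mul_eq_zero.mp r01).resolve_left e2
      rw [hu, hv] at r11 rc
      simp only [zero_add, zero_mul, mul_eq_zero, hk, hc0, or_false] at r11 rc
      have h3 : K (0, 1) * (c + 1) = 0 := by
        linear_combination rc + r11 - K (1, 0) * (CharTwo.two_eq_zero (R := F))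
      rcases mul_eq_zero.mp h3 with h4 | h4
      · exact e2 h4
      · exact hc1 (CharTwo.add_eq_zero.mp h4)
  -- so that preimage is central
  have hDcen : ∀ d, π d = 0 → ∀ x, x * d = d * x := by
    intro d hd x
    have hKx : K (π x) = 0 := by
      have hdec : π x = (π x).1 • ((1 : F), (0 : F)) + (π x).2 • ((0 : F), (1 : F)) := by ext <;> simp
      rw [hdec, hKadd, hKsmul, hKsmul, hK0.1, hK0.2, zero_mul, zero_mul, add_zero]
    have e := hL (π x) (θ' (mk d)) 1
    rw [one_smul, hKx, zero_mul] at e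
    have e0 : θ ⁅d, x⁆ = 0 := by
      rw [hbl d x hd, hlx _ x (sec (π x)) (hsec _).symm]
      exact mul_self_eq_zero.mp e
    exact (commutatorElement_eq_one_iff_mul_comm.mp (h.inj _ (hbr d x hd) e0)).symm
  have hαD : ∀ d, π d = 0 → π (α d) = 0 := by
    intro d hd
    rw [hπker, ← hα', h'.invol]
    exact ((hπker d).mp hd).symm
  have hcommD : ∀ x y : Q, π ⁅x, y⁆ = 0 := by
    intro x y
    rw [commutatorElement_def, hπmul, hπmul, hπmul, hπinv, hπinv]
    refine Prod.ext ?_ ?_ <;> simp only [Prod.fst_add, Prod.snd_add, Prod.fst_zero, Prod.snd_zero]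
    · linear_combination ((π x).1 + (π y).1) * (CharTwo.two_eq_zero (R := F))
    · linear_combination ((π x).2 + (π y).2) * (CharTwo.two_eq_zero (R := F))
  have hdet : ∀ x, k * ((π x).1 * (π (α x)).2 + (π x).2 * (π (α x)).1) = 0 := by
    intro x
    have h2 : ⁅x, α x⁆ * ⁅x, α x⁆ = 1 := comm_sq_one (hDcen _ (hcommD _ _))
      (hDcen _ (by rw [hπmul]; exact Prod.ext (CharTwo.add_self_eq_zero _) (CharTwo.add_self_eq_zero _)) _)
    have h3 : α ⁅x, α x⁆ = ⁅x, α x⁆ := by
      rw [map_commutatorElement, h.invol, ← commutatorElement_inv, inv_eq_of_mul_eq_one_right h2]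
    have h4 : mk x * mk (α x) = mk (α x) * mk x := by
      rw [← commutatorElement_eq_one_iff_mul_comm, ← map_commutatorElement, hmk]
      exact h3
    exact Shape.det_of_commute h' hπm hsqA hP h4
  let σ : F × F → F × F := fun w => π (α (sec w))
  have hσ : ∀ x, σ (π x) = π (α x) := by
    intro x
    obtain ⟨e, he, hxe⟩ := hπfac (sec (π x)) x (hsec _)
    show π (α (sec (π x))) = _
    conv_rhs => rw [hxe, map_mul, hπmul, hαD e he, add_zero]
  have hσadd : ∀ w w', σ (w + w') = σ w + σ w' := by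
    intro w w'
    have e := hσ (sec w * sec w')
    rw [hπmul, hsec, hsec, map_mul, hπmul] at e
    exact e
  have hσdet : ∀ w : F × F, w.1 * (σ w).2 + w.2 * (σ w).1 = 0 := by
    intro w
    have := (mul_eq_zero.mp (hdet (sec w))).resolve_left hk
    rwa [hsec] at this
  have hσsq : ∀ w, σ (σ w) = w := by
    intro w
    show σ (π (α (sec w))) = w
    rw [hσ, h.invol, hsec]
  have ha0 : ∀ a : F, (σ (a, 0)).2 = 0 := by
    intro a
    by_cases ha : a = 0
    · subst ha
      have e := hσadd 0 0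
      rw [add_zero] at e
      have : σ 0 = 0 := by simpa using e.symm.trans (add_zero _).symm
      rw [show ((0 : F), (0 : F)) = 0 from rfl, this]; rfl
    · have := hσdet (a, 0)
      simpa [ha] using this
  have hb0 : ∀ b : F, (σ (0, b)).1 = 0 := by
    intro b
    by_cases hb : b = 0
    · subst hb; exact (congrArg Prod.fst (show σ 0 = 0 from by
        have e := hσadd 0 0
        rw [add_zero] at e
        simpa using e.symm.trans (add_zero _).symm))
    · have := hσdet (0, b)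
      simpa [hb] using this
  have hab : ∀ a b : F, a * (σ (0, b)).2 + b * (σ (a, 0)).1 = 0 := by
    intro a b
    have := hσdet ((a, 0) + (0, b))
    rw [hσadd] at this
    simp only [Prod.fst_add, Prod.snd_add, ha0, hb0, add_zero, zero_add] at this
    exact this
  set l := (σ (1, 0)).1 with hl
  have hσeq : ∀ w : F × F, σ w = l • w := by
    intro w
    have hh : ∀ b, (σ (0, b)).2 = b * l := fun b => by
      have := hab 1 b
      rw [one_mul, CharTwo.add_eq_zero] at this
      exact this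
    have hg : ∀ a, (σ (a, 0)).1 = a * l := fun a => by
      have := hab a 1
      rw [one_mul, CharTwo.add_eq_zero, hh 1, one_mul] at this
      exact this.symm
    have hw : w = (w.1, 0) + (0, w.2) := by ext <;> simp
    conv_lhs => rw [hw, hσadd]
    ext
    · simp only [Prod.fst_add, hg, hb0, add_zero, Prod.smul_fst, smul_eq_mul]; ring
    · simp only [Prod.snd_add, hh, ha0, zero_add, Prod.smul_snd, smul_eq_mul]; ring
  have hl1 : l = 1 := by
    have := hσsq (1, 0)
    rw [hσeq, hσeq, smul_smul] at this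
    have h1 : l * l = 1 := by simpa using congrArg Prod.fst this
    have h2 : (l + 1) * (l + 1) = 0 := by
      linear_combination h1 + (l + 1) * (CharTwo.two_eq_zero (R := F))
    exact CharTwo.add_eq_zero.mp (mul_self_eq_zero.mp h2)
  have hαπ : ∀ x, π (α x) = π x := fun x => by rw [← hσ, hσeq, hl1, one_smul]
  have hallfix : ∀ x y : Q, α ⁅x, y⁆ = ⁅x, y⁆ := by
    intro x y
    obtain ⟨d, hd, hxd⟩ := hπfac x (α x) (hαπ x).symm
    obtain ⟨e, he, hye⟩ := hπfac y (α y) (hαπ y).symm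
    rw [map_commutatorElement, hxd, hye, comm_eq_of_central' (hDcen d hd), comm_eq_of_central (hDcen e he)]
  have hcA : mk (sec (1, 0)) * mk (sec (0, 1)) = mk (sec (0, 1)) * mk (sec (1, 0)) := by
    rw [← commutatorElement_eq_one_iff_mul_comm, ← map_commutatorElement, hmk]
    exact hallfix _ _
  have := Shape.det_of_commute h' hπm hsqA hP hcA
  rw [show π₀ (mk (sec (1, 0))) = (1, 0) from hsec _, show π₀ (mk (sec (0, 1))) = (0, 1) from hsec _] at this
  simp at this
  exact hk this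

end Cfsg.Agent.Invol.SuzTwo
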