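import Cfsg.Agent.Lib.Invol.SuzTwo.Basic

/-!
# The hypothesis: an involutory automorphism with a transitively permuted fixed subgroup
-/

set_option autoImplicit false

namespace Cfsg.Agent.Invol.SuzTwo

open scoped commutatorElement

/-- `α` has square one, commutes with `ρ`, and its fixed points are coordinatised by `θ` with `ρ` acting as `ω`. -/
structure Hyp {Q : Type*} [Group Q] (α ρ : MulAut Q) {F : Type*} [Field F] [Fintype F] (ω : F) (θ : Q → F) : Prop where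
  pg : IsPGroup 2 Q
  invol : ∀ x, α (α x) = x
  comm : ∀ x, α (ρ x) = ρ (α x)
  add : ∀ c d, α c = c → α d = d → θ (c * d) = θ c + θ d
  inj : ∀ c, α c = c → θ c = 0 → c = 1
  surj : ∀ t, ∃ c, α c = c ∧ θ c = t
  equiv : ∀ c, α c = c → θ (ρ c) = ω * θ c
  period : ρ ^ (Fintype.card F - 1) = 1

/-- The nonabelian conclusion: order `q³` with a quadratic squaring map. -/
def Shape {Q : Type*} [Group Q] (α ρ : MulAut Q) {F : Type*} [Field F] (ω : F) (θ : Q → F) : Prop :=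
  ∃ (π : Q → F × F) (u v k : F), k ≠ 0 ∧ (∀ x y, π (x * y) = π x + π y) ∧ Function.Surjective π ∧
    (∀ x, π x = 0 ↔ α x = x) ∧ (∀ x, π (ρ x) = ω • π x) ∧ (∀ x, α (x * x) = x * x) ∧
    ∀ x, θ (x * x) * θ (x * x) =
      u * ((π x).1 * (π x).1) + v * ((π x).2 * (π x).2) + k * ((π x).1 * (π x).2)

section Tools

variable {Q : Type*} [Group Q]

theorem comm_mul_left {a b x : Q} (hc : ∀ y, y * ⁅b, x⁆ = ⁅b, x⁆ * y) : ⁅a * b, x⁆ = ⁅b, x⁆ * ⁅a, x⁆ := by
  have : ⁅a * b, x⁆ = (a * ⁅b, x⁆ * a⁻¹) * ⁅a, x⁆ := by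
    simp only [commutatorElement_def]; group
  rw [this, hc a, mul_inv_cancel_right]

theorem comm_mul_right {a x y : Q} (hc : ∀ z, z * ⁅a, y⁆ = ⁅a, y⁆ * z) : ⁅a, x * y⁆ = ⁅a, x⁆ * ⁅a, y⁆ := by
  have : ⁅a, x * y⁆ = ⁅a, x⁆ * (x * ⁅a, y⁆ * x⁻¹) := by
    simp only [commutatorElement_def]; group
  rw [this, hc x, mul_inv_cancel_right]

theorem comm_eq_of_central {a x e : Q} (he : ∀ z, z * e = e * z) : ⁅a, x * e⁆ = ⁅a, x⁆ := by
  rw [commutatorElement_def, commutatorElement_def, show a * (x * e) * a⁻¹ * (x * e)⁻¹ = a * x * (e * a⁻¹) * e⁻¹ * x⁻¹ by group,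
    ← he a⁻¹]
  group

theorem comm_eq_of_central' {a x e : Q} (he : ∀ z, z * e = e * z) : ⁅a * e, x⁆ = ⁅a, x⁆ := by
  rw [commutatorElement_def, commutatorElement_def, show a * e * x * (a * e)⁻¹ * x⁻¹ = a * (e * x) * e⁻¹ * a⁻¹ * x⁻¹ by group,
    ← he x]
  group

theorem comm_sq_one {x y : Q} (hc : ∀ z, z * ⁅x, y⁆ = ⁅x, y⁆ * z) (hx : y * (x * x) = x * x * y) :
    ⁅x, y⁆ * ⁅x, y⁆ = 1 := by
  have h1 : x * y = ⁅x, y⁆ * (y * x) := by rw [commutatorElement_def]; group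
  have h2 : x * x * y = ⁅x, y⁆ * ⁅x, y⁆ * (y * (x * x)) := by
    calc x * x * y = x * (x * y) := mul_assoc _ _ _
      _ = x * ⁅x, y⁆ * (y * x) := by conv_lhs => rw [h1]
                                     group
      _ = ⁅x, y⁆ * (x * y) * x := by rw [hc x]; group
      _ = _ := by conv_lhs => rw [h1]
                  group
  rw [hx] at h2
  exact mul_eq_right.mp h2.symm

/-- An involutory automorphism of a nontrivial 2-group fixes a nontrivial element. -/
theorem exists_fixed [Finite Q] [Nontrivial Q] (hQ : IsPGroup 2 Q) (σ : Q → Q) (h1 : σ 1 = 1)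
    (hσ : ∀ x, σ (σ x) = x) : ∃ x, x ≠ 1 ∧ σ x = x := by
  classical
  haveI : Fact (Nat.Prime 2) := ⟨Nat.prime_two⟩
  letI := Fintype.ofFinite Q
  have hdvd : 2 ∣ Fintype.card Q := by
    rw [← Nat.card_eq_fintype_card]
    obtain ⟨m, hm⟩ := IsPGroup.iff_card.mp hQ
    have := Finite.one_lt_card (α := Q)
    rcases m with _ | m
    · omega
    · rw [hm]; exact dvd_pow_self _ (by omega)
  let P : Equiv.Perm Q := Function.Involutive.toPerm σ hσ
  have hP : P ^ 2 ^ 1 = 1 := by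
    ext x
    rw [pow_one, sq, Equiv.Perm.mul_apply]
    exact hσ x
  obtain ⟨b, hb, hb1⟩ := Equiv.Perm.exists_fixed_point_of_prime' hdvd hP (a := 1) h1
  exact ⟨b, hb1, hb⟩

end Tools

namespace Hyp

variable {Q : Type*} [Group Q] {α ρ : MulAut Q} {F : Type*} [Field F] [Fintype F] {ω : F} {θ : Q → F}
  (h : Hyp α ρ ω θ)

include h

theorem theta_one : θ 1 = 0 := by
  have := h.add 1 1 (map_one α) (map_one α)
  rw [mul_one] at this
  simpa using this.symm.trans (add_zero _).symm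

theorem fix_mul {c d : Q} (hc : α c = c) (hd : α d = d) : α (c * d) = c * d := by rw [map_mul, hc, hd]

theorem fix_inv {c : Q} (hc : α c = c) : α c⁻¹ = c⁻¹ := by rw [map_inv, hc]

theorem fix_rho {c : Q} (hc : α c = c) : α (ρ c) = ρ c := by rw [h.comm, hc]

theorem fix_rho_pow {c : Q} (hc : α c = c) : ∀ i : ℕ, α ((ρ ^ i) c) = (ρ ^ i) c ∧ θ ((ρ ^ i) c) = ω ^ i * θ c
  | 0 => by simp [hc]
  | i + 1 => by
    have ih := fix_rho_pow hc i
    rw [pow_succ', MulAut.mul_apply]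
    refine ⟨h.fix_rho ih.1, ?_⟩
    rw [h.equiv _ ih.1, ih.2, pow_succ', mul_assoc]

theorem eq_of_theta [CharP F 2] {c d : Q} (hc : α c = c) (hd : α d = d) (he : θ c = θ d) : c = d := by
  refine (inv_mul_eq_one.mp (h.inj _ (h.fix_mul (h.fix_inv hc) hd) ?_))
  have h1 := h.add c⁻¹ c (h.fix_inv hc) hc
  rw [inv_mul_cancel, h.theta_one] at h1
  rw [h.add _ _ (h.fix_inv hc) hd, ← he, ← h1]

theorem sq_fix [CharP F 2] {c : Q} (hc : α c = c) : c * c = 1 :=
  h.inj _ (h.fix_mul hc hc) (by rw [h.add _ _ hc hc]; exact CharTwo.add_self_eq_zero _)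

theorem inv_fix [CharP F 2] {c : Q} (hc : α c = c) : c⁻¹ = c :=
  inv_eq_of_mul_eq_one_right (h.sq_fix hc)

theorem central [Finite Q] [CharP F 2] (hω : IsGen ω) {c : Q} (hc : α c = c) (x : Q) : x * c = c * x := by
  haveI : Fact (Nat.Prime 2) := ⟨Nat.prime_two⟩
  rcases subsingleton_or_nontrivial Q with hs | hn
  · exact Subsingleton.elim _ _
  haveI : Nontrivial (Subgroup.center Q) := h.pg.center_nontrivial
  have hmem : ∀ (e : MulAut Q) (z : Subgroup.center Q), e (z : Q) ∈ Subgroup.center Q := fun e z => by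
    rw [Subgroup.mem_center_iff]
    intro g
    have := congrArg e ((Subgroup.mem_center_iff.mp z.2) (e.symm g))
    simpa using this
  obtain ⟨z, hz1, hz⟩ := exists_fixed (h.pg.to_subgroup (Subgroup.center Q)) (fun z => ⟨α z, hmem α z⟩)
    (Subtype.ext (map_one α)) (fun z => Subtype.ext (h.invol _))
  have hz' : α (z : Q) = z := congrArg Subtype.val hz
  by_cases hc0 : θ c = 0
  · rw [h.inj c hc hc0, mul_one, one_mul]
  have hzθ : θ (z : Q) ≠ 0 := fun e => hz1 (Subtype.ext (h.inj _ hz' e))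
  obtain ⟨i, hi⟩ := hω.2 (θ c / θ (z : Q)) (div_ne_zero hc0 hzθ)
  have hp := h.fix_rho_pow hz' i
  have : c = (ρ ^ i) (z : Q) := h.eq_of_theta hc hp.1 (by rw [hp.2, hi, div_mul_cancel₀ _ hzθ])
  rw [this]
  exact (Subgroup.mem_center_iff.mp (hmem (ρ ^ i) z) x)

end Hyp

variable {Q : Type*} [Group Q] {α ρ : MulAut Q} {F : Type*} [Field F] [Fintype F] {ω : F} {θ : Q → F}

/-- Commuting elements in a group of the given shape have dependent coordinates. -/
theorem Shape.det_of_commute [CharP F 2] (h : Hyp α ρ ω θ) {π : Q → F × F} {u v k : F}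
    (hπm : ∀ x y, π (x * y) = π x + π y) (hsq : ∀ x, α (x * x) = x * x)
    (hP : ∀ x, θ (x * x) * θ (x * x) =
      u * ((π x).1 * (π x).1) + v * ((π x).2 * (π x).2) + k * ((π x).1 * (π x).2))
    {x y : Q} (hxy : x * y = y * x) : k * ((π x).1 * (π y).2 + (π x).2 * (π y).1) = 0 := by
  have e : x * y * (x * y) = x * x * (y * y) := by
    rw [mul_assoc, ← mul_assoc y x y, ← hxy]; group
  have h1 := hP (x * y)
  rw [e, h.add _ _ (hsq x) (hsq y), hπm] at h1
  have h2 := hP x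
  have h3 := hP y
  simp only [Prod.fst_add, Prod.snd_add] at h1
  linear_combination (norm := skip) h2 + h3 - h1
  ring_nf
  simp [CharTwo.two_eq_zero]

end Cfsg.Agent.Invol.SuzTwo
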