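import Cfsg.Agent.Lib.Invol.SuzTwo.Abel
import Cfsg.Agent.Lib.Invol.SuzTwo.Exclude

/-!
# Classification and coordinates
-/

set_option autoImplicit false

namespace Cfsg.Agent.Invol.SuzTwo

universe u

theorem classify {F : Type*} [Field F] [Fintype F] [CharP F 2] {ω : F} (hω : IsGen ω)
    (hq : 3 ≤ Fintype.card F) : ∀ (Q : Type u) [Group Q] [Finite Q] (α ρ : MulAut Q) (θ : Q → F),
    Hyp α ρ ω θ → (∀ x y : Q, x * y = y * x) ∨ Shape α ρ ω θ := by
  suffices H : ∀ (m : ℕ) (Q : Type u) [Group Q] [Finite Q] (α ρ : MulAut Q) (θ : Q → F),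
      Nat.card Q = m → Hyp α ρ ω θ → (∀ x y : Q, x * y = y * x) ∨ Shape α ρ ω θ from
    fun Q _ _ α ρ θ h => H _ Q α ρ θ rfl h
  intro m
  induction m using Nat.strong_induction_on with
  | _ m ih =>
    intro Q _ _ α ρ θ hm h
    by_cases hne : ∃ x, α x ≠ x
    · obtain ⟨A, _, _, mk, α', ρ', θ', hlt, hmks, hmk, hα', hρ', h', hfix, hθ'⟩ := h.quot hω hne
      rcases ih _ (hm ▸ hlt) A α' ρ' θ' rfl h' with hA | hS
      · exact abel_case h hω mk hmks hmk hα' hρ' h' hA
      · exact (exclude h hω hq mk hmks hmk hα' hρ' h' hfix hθ' hS).elim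
    · push Not at hne
      exact Or.inl fun x y => h.central hω (hne y) x

open Polynomial in
/-- Coordinates on a group of exponent two permuted transitively. -/
theorem exists_coord {C : Type*} [CommGroup C] [Finite C] [Nontrivial C] (hexp : ∀ c : C, c * c = 1)
    (r : MulAut C) (htr : ∀ x y : C, x ≠ 1 → y ≠ 1 → ∃ k : ℕ, (r ^ k) x = y) :
    ∃ (F : Type) (_ : Field F) (_ : Fintype F) (ω : F) (θ : C → F), IsGen ω ∧
      (∀ c d, θ (c * d) = θ c + θ d) ∧ Function.Bijective θ ∧ ∀ c, θ (r c) = ω * θ c := by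
  classical
  letI : Module (ZMod 2) (Additive C) := AddCommGroup.zmodModule (n := 2) (fun a => by
    rw [two_nsmul]; exact congrArg Additive.ofMul (hexp a.toMul))
  let R : Module.End (ZMod 2) (Additive C) :=
    (MonoidHom.toAdditive (r : C ≃* C).toMonoidHom).toZModLinearMap 2
  have hR : ∀ a, R a = Additive.ofMul (r a.toMul) := fun a => rfl
  have hRk : ∀ (k : ℕ) a, (R ^ k) a = Additive.ofMul ((r ^ k) a.toMul) := by
    intro k
    induction k with
    | zero => intro a; rfl
    | succ k ih =>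
      intro a
      rw [pow_succ', pow_succ' r, Module.End.mul_apply, ih, MulAut.mul_apply, hR]
      rfl
  let ev : (ZMod 2)[X] →ₐ[ZMod 2] Module.End (ZMod 2) (Additive C) := aeval R
  have hevX : ∀ k : ℕ, ev (X ^ k) = R ^ k := fun k => by simp [ev]
  let I : Ideal (ZMod 2)[X] := RingHom.ker ev
  obtain ⟨c₀, hc₀⟩ := exists_ne (1 : C)
  have hker : ∀ p : (ZMod 2)[X], ev p (Additive.ofMul c₀) = 0 → p ∈ I := by
    intro p hp
    rw [RingHom.mem_ker]
    refine LinearMap.ext fun a => ?_
    by_cases ha : a.toMul = 1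
    · rw [show a = 0 from ha, map_zero, map_zero]
    obtain ⟨k, hk⟩ := htr c₀ a.toMul hc₀ ha
    have : a = (R ^ k) (Additive.ofMul c₀) := by rw [hRk]; exact (congrArg Additive.ofMul hk).symm
    rw [this, ← hevX, ← Module.End.mul_apply, ← map_mul, mul_comm, map_mul,
      Module.End.mul_apply, hp, map_zero]
    rfl
  let K := (ZMod 2)[X] ⧸ I
  let mkK : (ZMod 2)[X] →+* K := Ideal.Quotient.mk I
  let ψ : K → C := fun x => (ev (Function.surjInv Ideal.Quotient.mk_surjective x) (Additive.ofMul c₀)).toMul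
  have hψ : ∀ p, ψ (mkK p) = (ev p (Additive.ofMul c₀)).toMul := by
    intro p
    have e : mkK (Function.surjInv Ideal.Quotient.mk_surjective (mkK p)) = mkK p :=
      Function.surjInv_eq Ideal.Quotient.mk_surjective (mkK p)
    have h1 := RingHom.mem_ker.mp (Ideal.Quotient.eq.mp e)
    rw [map_sub, sub_eq_zero] at h1
    show (ev _ _).toMul = _
    rw [h1]
  have hψadd : ∀ a b, ψ (a + b) = ψ a * ψ b := by
    intro a b
    obtain ⟨p, rfl⟩ := Ideal.Quotient.mk_surjective a
    obtain ⟨s, rfl⟩ := Ideal.Quotient.mk_surjective b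
    show ψ (mkK p + mkK s) = _
    rw [← map_add, hψ, hψ, hψ, map_add]
    rfl
  have hψX : ∀ k : ℕ, ψ (mkK (X ^ k)) = (r ^ k) c₀ := fun k => by
    rw [hψ, hevX, hRk]; rfl
  have hψb : Function.Bijective ψ := by
    constructor
    · intro a b hab
      obtain ⟨p, rfl⟩ := Ideal.Quotient.mk_surjective a
      obtain ⟨s, rfl⟩ := Ideal.Quotient.mk_surjective b
      rw [show ψ (Ideal.Quotient.mk I p) = _ from hψ p, show ψ (Ideal.Quotient.mk I s) = _ from hψ s] at hab
      refine Ideal.Quotient.eq.mpr (hker _ ?_)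
      rw [map_sub, LinearMap.sub_apply, sub_eq_zero]
      exact Additive.toMul.injective hab
    · intro c
      by_cases hc : c = 1
      · refine ⟨mkK 0, ?_⟩
        rw [hψ, map_zero, hc]
        rfl
      obtain ⟨k, hk⟩ := htr c₀ c hc₀ hc
      exact ⟨mkK (X ^ k), by rw [hψX, hk]⟩
  haveI : Finite K := Finite.of_injective ψ hψb.1
  haveI : Nontrivial K := ⟨mkK (X ^ 0), mkK 0, fun e => hc₀ (by
    have := congrArg ψ e
    rw [hψX, hψ, map_zero] at this
    simpa using this)⟩
  have hgen : ∀ t : K, t ≠ 0 → ∃ k : ℕ, (mkK X) ^ k = t := by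
    intro t ht
    have h0 : ψ (mkK 0) = 1 := by rw [hψ, map_zero]; rfl
    have hc : ψ t ≠ 1 := fun e => ht ((hψb.1 (e.trans h0.symm)).trans (map_zero mkK))
    obtain ⟨k, hk⟩ := htr c₀ _ hc₀ hc
    exact ⟨k, hψb.1 (by rw [← map_pow, hψX, hk])⟩
  have hunit : IsUnit (mkK X) := by
    refine IsUnit.of_pow_eq_one (n := orderOf r) ?_ (orderOf_pos r).ne'
    rw [← map_pow]
    refine hψb.1 ?_
    rw [hψX, pow_orderOf_eq_one, ← map_one mkK, ← pow_zero X, hψX, pow_zero]
  have hfield : IsField K :=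
    { exists_pair_ne := exists_pair_ne K
      mul_comm := mul_comm
      mul_inv_cancel := fun {a} ha => by
        obtain ⟨k, hk⟩ := hgen a ha
        exact (hk ▸ hunit.pow k).exists_right_inv }
  letI : Field K := hfield.toField
  letI : Fintype K := Fintype.ofFinite K
  let e := Equiv.ofBijective ψ hψb
  refine ⟨K, inferInstance, inferInstance, mkK X, e.symm, ⟨hunit.ne_zero, hgen⟩, fun c d => ?_, e.symm.bijective, fun c => ?_⟩
  · apply e.injective
    rw [e.apply_symm_apply]
    show c * d = ψ _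
    rw [hψadd]
    exact congrArg₂ (· * ·) (e.apply_symm_apply c).symm (e.apply_symm_apply d).symm
  · apply e.injective
    rw [e.apply_symm_apply]
    obtain ⟨p, hp⟩ := Ideal.Quotient.mk_surjective (e.symm c)
    rw [← hp]
    show r c = ψ (mkK X * mkK p)
    rw [← map_mul, hψ, map_mul, Module.End.mul_apply, show ev X = R from aeval_X R, hR,
      ← show ψ (mkK p) = _ from hψ p, show mkK p = e.symm c from hp]
    show r c = r (ψ (e.symm c))
    rw [show ψ (e.symm c) = c from e.apply_symm_apply c]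

end Cfsg.Agent.Invol.SuzTwo
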