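import Cfsg.Agent.Lib.Invol.SuzTwo.Main
import Cfsg.Agent.Lib.Invol.SixtyFourLinear
import Cfsg.Agent.Lib.Recog.SU3Sylow

/-!
# Identification with the Sylow 2-subgroups of `PSL(3, q)` and `PSU(3, q)`
-/

set_option autoImplicit false

namespace Cfsg.Agent.Invol.SuzTwo

open Cfsg.Agent.Fus.PSLN Cfsg.Agent.Invol.SixtyFour Cfsg.Agent.Recog.SU3Two Polynomial

/-- Transport a quadratic squaring map to a model along a change of coordinates. -/
theorem iso_model {F : Type*} [Field F] [Fintype F] [CharP F 2] {ω : F} (hω : IsGen ω)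
    {Q : Type*} [Group Q] [Finite Q] {α ρ : MulAut Q} {θ : Q → F} (h : Hyp α ρ ω θ)
    {π : Q → F × F} (hπm : ∀ x y, π (x * y) = π x + π y) (hπs : Function.Surjective π)
    (hπk : ∀ x, π x = 0 ↔ α x = x) (hsq : ∀ x, α (x * x) = x * x)
    {M V T : Type*} [Group M] [Finite M] [AddCommGroup V] [AddCommGroup T]
    (L : F × F →+ V) (hL : Function.Bijective L) (φ : F →+ T) (hφ : Function.Injective φ)
    (πM : M → V) (θM : M → T) (hMm : ∀ x y, πM (x * y) = πM x + πM y) (hMs : Function.Surjective πM)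
    (hMc : ∀ c, πM c = 0 → ∀ x, x * c = c * x)
    (hMθ : ∀ x y, πM x = 0 → πM y = 0 → θM (x * y) = θM x + θM y)
    (hMi : ∀ x, πM x = 0 → θM x = 0 → x = 1)
    (hMimg : ∀ t, (∃ y, πM y = 0 ∧ θM y = t) ↔ ∃ s, φ s = t)
    (hMsq : ∀ y, πM (y * y) = 0)
    (heq : ∀ x y, L (π x) = πM y → φ (θ (x * x)) = θM (y * y)) : Nonempty (Q ≃* M) := by
  have hL0 : ∀ x, L (π x) = 0 ↔ α x = x := fun x => by rw [map_eq_zero_iff L hL.1, hπk]
  refine iso_of_sq (fun x => L (π x)) (fun x => φ (θ x)) πM θM (fun x y => by rw [hπm, map_add]) hMm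
    (hL.2.comp hπs) hMs (fun c hc => h.central hω ((hL0 c).mp hc)) hMc
    (fun x y hx hy => by rw [h.add _ _ ((hL0 x).mp hx) ((hL0 y).mp hy), map_add]) hMθ
    (fun x hx hx0 => h.inj x ((hL0 x).mp hx) (hφ (hx0.trans (map_zero φ).symm))) hMi ?_
    (fun x => (hL0 _).mpr (hsq x)) hMsq heq
  intro t
  rw [hMimg]
  constructor
  · rintro ⟨x, -, rfl⟩
    exact ⟨_, rfl⟩
  · rintro ⟨s, rfl⟩
    obtain ⟨c, hc, hcs⟩ := h.surj s
    exact ⟨c, (hL0 c).mpr hc, by rw [hcs]⟩

/-- `x ↦ u x²` -/
def scaledSquare {F : Type*} [CommRing F] [CharP F 2] (u : F) : F →+ F :=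
  AddMonoidHom.mk' (fun s => u * (s * s)) fun a b => by
    linear_combination u * a * b * (CharTwo.two_eq_zero (R := F))

theorem scaledSquare_bijective {F : Type*} [Field F] [Finite F] [CharP F 2] {u : F} (hu : u ≠ 0) :
    Function.Bijective (scaledSquare u) := by
  refine Finite.injective_iff_bijective.mp fun a b hab => ?_
  have h1 : a * a = b * b := mul_left_cancel₀ hu hab
  have h2 : (a + b) * (a + b) = 0 := by
    linear_combination h1 + (a * b + b * b) * (CharTwo.two_eq_zero (R := F))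
  exact CharTwo.add_eq_zero.mp (mul_self_eq_zero.mp h2)

/-- The linear change of coordinates with the given matrix. -/
def pairMap {F : Type*} [CommRing F] (a b c d : F) : F × F →+ F × F :=
  AddMonoidHom.mk' (fun p => (a * p.1 + b * p.2, c * p.1 + d * p.2)) fun p p' => by
    ext <;> simp <;> ring

theorem pairMap_bijective {F : Type*} [Field F] [Finite F] {a b c d : F} (h : a * d - b * c ≠ 0) :
    Function.Bijective (pairMap a b c d) := by
  refine Finite.injective_iff_bijective.mp ((injective_iff_map_eq_zero _).mpr fun p hp => ?_)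
  obtain ⟨h1, h2⟩ := Prod.ext_iff.mp hp
  change a * p.1 + b * p.2 = 0 at h1
  change c * p.1 + d * p.2 = 0 at h2
  exact Prod.ext
    ((mul_eq_zero.mp (show (a * d - b * c) * p.1 = 0 by linear_combination d * h1 - b * h2)).resolve_left h)
    ((mul_eq_zero.mp (show (a * d - b * c) * p.2 = 0 by linear_combination a * h2 - c * h1)).resolve_left h)

/-- The isotropic case. -/
theorem iso_linear {F : Type} [Field F] [Fintype F] [CharP F 2] {ω : F} (hω : IsGen ω)
    {Q : Type*} [Group Q] [Finite Q] {α ρ : MulAut Q} {θ : Q → F} (h : Hyp α ρ ω θ)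
    {π : Q → F × F} (hπm : ∀ x y, π (x * y) = π x + π y) (hπs : Function.Surjective π)
    (hπk : ∀ x, π x = 0 ↔ α x = x) (hsq : ∀ x, α (x * x) = x * x)
    (L : F × F →+ F × F) (hL : Function.Bijective L) (μ : F) (hμ : μ ≠ 0)
    (heq : ∀ x, μ * (θ (x * x) * θ (x * x)) = (L (π x)).1 * (L (π x)).2) :
    Nonempty (Q ≃* ↥(unip F 3)) := by
  have hmk : ∀ A : ↥(unip F 3), ∃ a b d, A = mk3 a b d := fun A => ⟨_, _, _, mk3_surj A⟩
  refine iso_model hω h hπm hπs hπk hsq L hL (scaledSquare μ) (scaledSquare_bijective hμ).1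
    (fun A : ↥(unip F 3) => (ent A.1 0 1, ent A.1 1 2)) (fun A => ent A.1 0 2) ?_ ?_ ?_ ?_ ?_ ?_ ?_ ?_
  · intro x y
    obtain ⟨a, b, d, rfl⟩ := hmk x
    obtain ⟨a', b', d', rfl⟩ := hmk y
    simp only [mk3_mul, mk3_01, mk3_12, Prod.mk_add_mk]
  · rintro ⟨a, b⟩
    exact ⟨mk3 a b 0, by simp only [mk3_01, mk3_12]⟩
  · intro c hc x
    obtain ⟨a, b, d, rfl⟩ := hmk c
    obtain ⟨a', b', d', rfl⟩ := hmk x
    simp only [mk3_01, mk3_12, Prod.mk_eq_zero] at hc
    obtain ⟨rfl, rfl⟩ := hc
    simp only [mk3_mul, zero_add, add_zero, mul_zero, zero_mul, add_comm d d']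
  · intro x y hx hy
    obtain ⟨a, b, d, rfl⟩ := hmk x
    obtain ⟨a', b', d', rfl⟩ := hmk y
    simp only [mk3_01, mk3_12, Prod.mk_eq_zero] at hx
    simp only [mk3_mul, mk3_02, hx.1, zero_mul, add_zero]
  · intro x hx hx0
    obtain ⟨a, b, d, rfl⟩ := hmk x
    simp only [mk3_01, mk3_12, mk3_02, Prod.mk_eq_zero] at hx hx0
    rw [hx.1, hx.2, hx0, mk3_zero]
  · intro t
    exact ⟨fun _ => (scaledSquare_bijective hμ).2 t, fun _ => ⟨mk3 0 0 t, by simp [mk3_01, mk3_12], by simp [mk3_02]⟩⟩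
  · intro y
    obtain ⟨a, b, d, rfl⟩ := hmk y
    simp only [mk3_mul, mk3_01, mk3_12, CharTwo.add_self_eq_zero, Prod.mk_eq_zero, and_self]
  · intro x y hxy
    obtain ⟨a, b, d, rfl⟩ := hmk y
    simp only [mk3_01, mk3_12] at hxy
    show μ * (θ (x * x) * θ (x * x)) = _
    rw [heq, hxy, mk3_mul, mk3_02, CharTwo.add_self_eq_zero, zero_add]

/-- The anisotropic case. -/
theorem iso_unitary {F K : Type} [Field F] [Fintype F] [CharP F 2] [Field K] [Fintype K] [CharP K 2] {ω : F}
    (hω : IsGen ω) [hK : Fact (Fintype.card K = Fintype.card F ^ 2)]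
    {Q : Type*} [Group Q] [Finite Q] {α ρ : MulAut Q} {θ : Q → F} (h : Hyp α ρ ω θ)
    {π : Q → F × F} (hπm : ∀ x y, π (x * y) = π x + π y) (hπs : Function.Surjective π)
    (hπk : ∀ x, π x = 0 ↔ α x = x) (hsq : ∀ x, α (x * x) = x * x)
    (ι : F →+* K) (L : F × F →+ K) (hL : Function.Bijective L) (μ : F) (hμ : μ ≠ 0)
    (heq : ∀ x, ι (μ * (θ (x * x) * θ (x * x))) = L (π x) * L (π x) ^ Fintype.card F) :
    Nonempty (Q ≃* UT K (Fintype.card F)) := by
  haveI : Finite (UT K (Fintype.card F)) := by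
    obtain ⟨x, hx⟩ := exists_trq_one (F := K) (q := Fintype.card F)
    exact Finite.of_injective _ (UT.coords hx).injective
  have hrange : ∀ t : K, t ^ Fintype.card F = t → ∃ s, ι s = t := by
    intro t ht
    let e : F → Fx K (Fintype.card F) := fun s => ⟨ι s, by rw [mem_Fx, ← map_pow, FiniteField.pow_card]⟩
    have he : Function.Bijective e :=
      Function.Injective.bijective_of_nat_card_le (fun a b hab => ι.injective (congrArg Subtype.val hab))
        (by rw [card_Fx, Nat.card_eq_fintype_card])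
    obtain ⟨s, hs⟩ := he.2 ⟨t, ht⟩
    exact ⟨s, congrArg Subtype.val hs⟩
  have hcen : ∀ c : UT K (Fintype.card F), c.a = 0 → ∀ x, x * c = c * x := fun c hc =>
    Subgroup.mem_center_iff.mp ((UT.mem_center_iff c).mpr hc)
  refine iso_model hω h hπm hπs hπk hsq L hL ((ι : F →+ K).comp (scaledSquare μ)) ?_
    (fun u : UT K (Fintype.card F) => u.a) (fun u => u.b) UT.mul_a UT.exists_mk hcen ?_ ?_ ?_ (fun y => by show (y * y).a = 0; rw [UT.mul_a, CharTwo.add_self_eq_zero]) ?_
  · exact fun a b hab => (scaledSquare_bijective hμ).1 (ι.injective hab)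
  · intro x y hx _
    show (x * y).b = x.b + y.b
    rw [UT.mul_b, hx, pq_zero, zero_mul, add_zero]
  · intro x hx hx0
    exact UT.ext hx hx0
  · intro t
    constructor
    · rintro ⟨y, hy, rfl⟩
      have e := y.eq
      rw [hy, zero_mul, CharTwo.add_eq_zero] at e
      obtain ⟨s, hs⟩ := hrange _ e.symm
      obtain ⟨r, hr⟩ := (scaledSquare_bijective hμ).2 s
      exact ⟨r, by show ι (scaledSquare μ r) = _; rw [hr, hs]⟩
    · rintro ⟨r, rfl⟩
      refine ⟨UT.z ⟨ι (scaledSquare μ r), ?_⟩, rfl, rfl⟩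
      rw [mem_Fx, ← map_pow, FiniteField.pow_card]
  · intro x y hxy
    show ι (μ * (θ (x * x) * θ (x * x))) = (y * y).b
    rw [heq, show L (π x) = y.a from hxy, ← pow_two y, UT.sq_b]

/-- The final dichotomy. -/
theorem identify {F : Type} [Field F] [Fintype F] [CharP F 2] {ω : F} (hω : IsGen ω)
    {Q : Type*} [Group Q] [Finite Q] {α ρ : MulAut Q} {θ : Q → F} (h : Hyp α ρ ω θ)
    (hS : Shape α ρ ω θ) :
    Nonempty (Q ≃* ↥(unip F 3)) ∨ ∃ (K : Type) (_ : Field K) (_ : Fintype K) (_ : CharP K 2)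
      (_ : Fact (Fintype.card K = Fintype.card F ^ 2)), Nonempty (Q ≃* UT K (Fintype.card F)) := by
  classical
  obtain ⟨π, u, v, k, hk, hπm, hπs, hπk, -, hsq, hP⟩ := hS
  by_cases hu : u = 0
  · left
    refine iso_linear hω h hπm hπs hπk hsq (pairMap 0 1 k v) (pairMap_bijective (by simpa using hk)) 1
      one_ne_zero fun x => ?_
    rw [hP, hu]
    show _ = (0 * (π x).1 + 1 * (π x).2) * (k * (π x).1 + v * (π x).2)
    ring
  by_cases hiso : ∃ r : F, u * (r * r) + k * r + v = 0
  · left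
    obtain ⟨r, hr⟩ := hiso
    refine iso_linear hω h hπm hπs hπk hsq (pairMap 1 r u (u * r + k)) (pairMap_bijective (by rw [show 1 * (u * r + k) - r * u = k by ring]; exact hk)) 1
      one_ne_zero fun x => ?_
    rw [hP]
    show _ = (1 * (π x).1 + r * (π x).2) * (u * (π x).1 + (u * r + k) * (π x).2)
    linear_combination (-((π x).2 * (π x).2)) * hr + (v * ((π x).2 * (π x).2) - u * r * ((π x).1 * (π x).2)) * (CharTwo.two_eq_zero (R := F))
  right
  let p : F[X] := X ^ 2 + C (k / u) * X + C (v / u)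
  have hpd : p.natDegree = 2 := by simp only [p]; compute_degree!
  have hpm : p.Monic := by simp only [p]; monicity!
  have hirr : Irreducible p := by
    refine (Polynomial.Monic.irreducible_iff_roots_eq_zero_of_degree_le_three hpm (le_of_eq hpd.symm) (by omega)).mpr ?_
    refine Multiset.eq_zero_of_forall_notMem fun r hr => hiso ⟨r, ?_⟩
    have e := (Polynomial.mem_roots hpm.ne_zero).mp hr
    simp only [p, IsRoot.def, eval_add, eval_mul, eval_pow, eval_X, eval_C] at e
    field_simp at e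
    linear_combination e
  haveI : Fact (Irreducible p) := ⟨hirr⟩
  let K := AdjoinRoot p
  let pb := AdjoinRoot.powerBasis hpm.ne_zero
  haveI : Module.Finite F K := pb.finite
  haveI : Finite K := Module.finite_of_finite F
  letI : Fintype K := Fintype.ofFinite K
  have hcard : Fintype.card K = Fintype.card F ^ 2 := by
    rw [Module.card_eq_pow_finrank (K := F) (V := K), pb.finrank, AdjoinRoot.powerBasis_dim, hpd]
  haveI : Fact (Fintype.card K = Fintype.card F ^ 2) := ⟨hcard⟩
  haveI : CharP K 2 := charP_of_injective_algebraMap (algebraMap F K).injective 2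
  let ι := algebraMap F K
  let rt : K := AdjoinRoot.root p
  have hroot : rt * rt + ι (k / u) * rt + ι (v / u) = 0 := by
    have e : eval₂ (AdjoinRoot.of p) rt (X ^ 2 + C (k / u) * X + C (v / u)) = 0 := AdjoinRoot.eval₂_root p
    simp only [eval₂_add, eval₂_mul, eval₂_pow, eval₂_X, eval₂_C] at e
    rw [pow_two] at e
    exact e
  have hnot : ∀ s : F, ι s ≠ rt := by
    intro s hs
    refine hiso ⟨s, ?_⟩
    have h0 : s * s + k / u * s + v / u = 0 := ι.injective (by rw [map_add, map_add, map_mul, map_mul, map_zero, hs]; exact hroot)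
    field_simp at h0
    linear_combination h0
  have hfix : ∀ s : F, ι s ^ Fintype.card F = ι s := fun s => by rw [← map_pow, FiniteField.pow_card]
  have hconj : rt ^ Fintype.card F = rt + ι (k / u) := by
    have e := congrArg (· ^ Fintype.card F) hroot
    simp only [pq_add, mul_pow, hfix, pq_zero] at e
    have h2 : (rt ^ Fintype.card F + rt) * (rt ^ Fintype.card F + rt + ι (k / u)) = 0 := by
      linear_combination e - hroot + (rt ^ Fintype.card F * rt + rt * rt + ι (k / u) * rt) * (CharTwo.two_eq_zero (R := K))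
    rcases mul_eq_zero.mp h2 with h3 | h3
    · exfalso
      let e : F → Fx K (Fintype.card F) := fun s => ⟨ι s, hfix s⟩
      have he : Function.Bijective e :=
        Function.Injective.bijective_of_nat_card_le (fun a b hab => ι.injective (congrArg Subtype.val hab))
          (by rw [card_Fx, Nat.card_eq_fintype_card])
      obtain ⟨s, hs⟩ := he.2 ⟨rt, CharTwo.add_eq_zero.mp h3⟩
      exact hnot s (congrArg Subtype.val hs)
    · exact CharTwo.add_eq_zero.mp (by rw [← add_assoc]; exact h3)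
  let L : F × F →+ K := AddMonoidHom.mk' (fun q => ι q.1 + ι q.2 * rt) fun a b => by
    simp only [Prod.fst_add, Prod.snd_add, map_add]; ring
  have hLinj : Function.Injective L := by
    refine (injective_iff_map_eq_zero _).mpr fun q hq => ?_
    change ι q.1 + ι q.2 * rt = 0 at hq
    by_cases hb : q.2 = 0
    · rw [hb, map_zero, zero_mul, add_zero, map_eq_zero_iff ι ι.injective] at hq
      exact Prod.ext hq hb
    · refine absurd ?_ (hnot (q.1 / q.2))
      have hb' : ι q.2 ≠ 0 := (map_ne_zero ι).mpr hb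
      rw [map_div₀, div_eq_iff hb', mul_comm]
      exact CharTwo.add_eq_zero.mp hq
  have hLb : Function.Bijective L :=
    Function.Injective.bijective_of_nat_card_le hLinj (by
      rw [Nat.card_prod, Nat.card_eq_fintype_card, Nat.card_eq_fintype_card, hcard, pow_two])
  refine ⟨K, inferInstance, inferInstance, inferInstance, inferInstance,
    iso_unitary hω h hπm hπs hπk hsq ι L hLb u⁻¹ (inv_ne_zero hu) fun x => ?_⟩
  show _ = (ι (π x).1 + ι (π x).2 * rt) * (ι (π x).1 + ι (π x).2 * rt) ^ Fintype.card F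
  rw [pq_add, mul_pow, hfix, hfix, hconj, hP, map_mul, map_inv₀, map_add, map_add]
  simp only [map_mul, map_div₀] at hroot ⊢
  have hu' : ι u ≠ 0 := (map_ne_zero ι).mpr hu
  have hinv : (ι u)⁻¹ * ι u = 1 := inv_mul_cancel₀ hu'
  simp only [div_eq_mul_inv] at hroot ⊢
  linear_combination ((ι (π x).1) ^ 2) * hinv - ((ι (π x).2) ^ 2) * hroot +
    ((ι (π x).2) ^ 2 * ι v * (ι u)⁻¹ - ι (π x).1 * ι (π x).2 * rt) * (CharTwo.two_eq_zero (R := K))

end Cfsg.Agent.Invol.SuzTwo
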