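import Cfsg.Agent.Lib.Invol.SuzTwo.Hyp

/-!
# Passing to the quotient by the fixed-point subgroup
-/

set_option autoImplicit false

namespace Cfsg.Agent.Invol.SuzTwo

open scoped commutatorElement

universe u

variable {Q : Type u} [Group Q] {α ρ : MulAut Q} {F : Type*} [Field F] [Fintype F] {ω : F} {θ : Q → F}

/-- the fixed subgroup -/
def fixedSub (α : MulAut Q) : Subgroup Q where
  carrier := {x | α x = x}
  one_mem' := map_one α
  mul_mem' := fun {a b} ha hb => by
    show α (a * b) = a * b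
    rw [map_mul, show α a = a from ha, show α b = b from hb]
  inv_mem' := fun {a} ha => by
    show α a⁻¹ = a⁻¹
    rw [map_inv, show α a = a from ha]

theorem mem_fixedSub {x : Q} : x ∈ fixedSub α ↔ α x = x := Iff.rfl

variable [Finite Q] [CharP F 2]

theorem Hyp.fixed_normal (h : Hyp α ρ ω θ) (hω : IsGen ω) : (fixedSub α).Normal :=
  ⟨fun n hn g => by
    have : g * n * g⁻¹ = n := by rw [h.central hω hn g, mul_inv_cancel_right]
    rw [this]; exact hn⟩

theorem Hyp.map_fixed (h : Hyp α ρ ω θ) (e : MulAut Q) (he : ∀ x, α (e x) = e (α x)) :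
    (fixedSub α).map (e : Q ≃* Q).toMonoidHom = fixedSub α := by
  ext x
  constructor
  · rintro ⟨y, hy, rfl⟩
    show α (e y) = e y
    rw [he, show α y = y from hy]
  · intro hx
    refine ⟨e.symm x, ?_, e.apply_symm_apply x⟩
    show α (e.symm x) = e.symm x
    apply e.injective
    rw [← he, e.apply_symm_apply, show α x = x from hx]

/-- `x⁻¹ α x` -/
def defect (α : MulAut Q) (x : Q) : Q := x⁻¹ * α x

/-- The hypothesis on the quotient by the fixed subgroup. -/
theorem Hyp.quot (h : Hyp α ρ ω θ) (hω : IsGen ω) (hne : ∃ x, α x ≠ x) :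
    ∃ (A : Type u) (_ : Group A) (_ : Finite A) (mk : Q →* A) (α' ρ' : MulAut A) (θ' : A → F),
      Nat.card A < Nat.card Q ∧ Function.Surjective mk ∧ (∀ x, mk x = 1 ↔ α x = x) ∧
      (∀ x, α' (mk x) = mk (α x)) ∧ (∀ x, ρ' (mk x) = mk (ρ x)) ∧ Hyp α' ρ' ω θ' ∧
      (∀ x, α' (mk x) = mk x ↔ α (defect α x) = defect α x) ∧ (∀ x, θ' (mk x) = θ (defect α x)) := by
  classical
  haveI := h.fixed_normal hω
  let A := Q ⧸ fixedSub α
  let mk : Q →* A := QuotientGroup.mk' (fixedSub α)
  have hmk : ∀ x, mk x = 1 ↔ α x = x := fun x => QuotientGroup.eq_one_iff x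
  have hmks : Function.Surjective mk := QuotientGroup.mk'_surjective _
  have hmkeq : ∀ x y, mk x = mk y ↔ α (x⁻¹ * y) = x⁻¹ * y := fun x y => QuotientGroup.eq
  let α' : MulAut A := QuotientGroup.congr _ _ α (h.map_fixed α (fun _ => rfl))
  let ρ' : MulAut A := QuotientGroup.congr _ _ ρ (h.map_fixed ρ h.comm)
  have hα' : ∀ x, α' (mk x) = mk (α x) := fun x => rfl
  have hρ' : ∀ x, ρ' (mk x) = mk (ρ x) := fun x => rfl
  have hdef : ∀ x c, α c = c → defect α (x * c) = defect α x := by
    intro x c hc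
    unfold defect
    rw [map_mul, hc, mul_inv_rev, ← mul_assoc, mul_assoc c⁻¹, mul_assoc c⁻¹,
      h.central hω hc (x⁻¹ * α x), inv_mul_cancel_left]
  have hfix : ∀ x, α' (mk x) = mk x ↔ α (defect α x) = defect α x := fun x => by
    rw [hα', eq_comm, hmkeq]
    rfl
  let θ' : A → F := fun a => θ (defect α (Function.surjInv hmks a))
  have hθ' : ∀ x, θ' (mk x) = θ (defect α x) := by
    intro x
    have e := (hmkeq x (Function.surjInv hmks (mk x))).mp (Function.surjInv_eq hmks (mk x)).symm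
    show θ (defect α (Function.surjInv hmks (mk x))) = _
    rw [← hdef x _ e, mul_inv_cancel_left]
  refine ⟨A, inferInstance, inferInstance, mk, α', ρ', θ', ?_, hmks, hmk, hα', hρ', ?_, hfix, hθ'⟩
  · obtain ⟨c, hc, hc1⟩ := h.surj 1
    have h2 : 1 < Nat.card (fixedSub α) := by
      rw [Finite.one_lt_card_iff_nontrivial]
      exact ⟨⟨c, hc⟩, 1, fun e => by
        have : c = 1 := congrArg Subtype.val e
        rw [this, h.theta_one] at hc1
        exact zero_ne_one hc1⟩
    have h3 := Subgroup.card_eq_card_quotient_mul_card_subgroup (fixedSub α)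
    have h4 : 0 < Nat.card A := Nat.card_pos
    rw [h3]
    exact lt_mul_of_one_lt_right h4 h2
  haveI : Nontrivial A := by
    obtain ⟨x, hx⟩ := hne
    exact ⟨mk x, 1, fun e => hx ((hmk x).mp e)⟩
  have hrp : ∀ (i : ℕ) x, (ρ' ^ i) (mk x) = mk ((ρ ^ i) x) := by
    intro i
    induction i with
    | zero => intro x; rfl
    | succ i ih => intro x; rw [pow_succ', pow_succ', MulAut.mul_apply, MulAut.mul_apply, ih, hρ']
  have hdrho : ∀ x, defect α (ρ x) = ρ (defect α x) := fun x => by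
    unfold defect; rw [map_mul, map_inv, h.comm]
  have hmul : ∀ x y, α (defect α x) = defect α x → α (defect α y) = defect α y →
      defect α (x * y) = defect α x * defect α y := by
    intro x y hx _
    unfold defect
    rw [map_mul, mul_inv_rev, show y⁻¹ * x⁻¹ * (α x * α y) = y⁻¹ * (x⁻¹ * α x) * α y by group]
    have := h.central hω hx y⁻¹
    unfold defect at this
    rw [this, mul_assoc]
  refine ⟨h.pg.to_quotient _, fun a => ?_, fun a => ?_, fun a b ha hb => ?_, fun a ha ha0 => ?_, ?_,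
    fun a ha => ?_, ?_⟩
  · obtain ⟨x, rfl⟩ := hmks a
    rw [hα', hα', h.invol]
  · obtain ⟨x, rfl⟩ := hmks a
    rw [hρ', hα', hα', hρ', h.comm]
  · obtain ⟨x, rfl⟩ := hmks a
    obtain ⟨y, rfl⟩ := hmks b
    have hx := (hfix x).mp ha
    have hy := (hfix y).mp hb
    rw [← map_mul, hθ', hθ', hθ', hmul x y hx hy, h.add _ _ hx hy]
  · obtain ⟨x, rfl⟩ := hmks a
    rw [hθ'] at ha0
    have := h.inj _ ((hfix x).mp ha) ha0
    exact (hmk x).mpr (inv_mul_eq_one.mp this).symm
  · intro t
    obtain ⟨a, ha1, ha⟩ := exists_fixed (h.pg.to_quotient (fixedSub α)) α' (map_one α') (fun a => by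
      obtain ⟨x, rfl⟩ := hmks a
      rw [hα', hα', h.invol])
    obtain ⟨x, rfl⟩ := hmks a
    have hx := (hfix x).mp ha
    have hx0 : θ (defect α x) ≠ 0 := fun e =>
      ha1 ((hmk x).mpr (inv_mul_eq_one.mp (h.inj _ hx e)).symm)
    by_cases ht : t = 0
    · refine ⟨1, map_one _, ?_⟩
      rw [← map_one mk, hθ', ht]
      unfold defect
      rw [map_one, inv_one, mul_one, h.theta_one]
    obtain ⟨i, hi⟩ := hω.2 (t / θ (defect α x)) (div_ne_zero ht hx0)
    have hd : ∀ j : ℕ, defect α ((ρ ^ j) x) = (ρ ^ j) (defect α x) := by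
      intro j
      induction j with
      | zero => rfl
      | succ j ih => rw [pow_succ', MulAut.mul_apply, MulAut.mul_apply, hdrho, ih]
    refine ⟨mk ((ρ ^ i) x), (hfix _).mpr ?_, ?_⟩
    · rw [hd]; exact (h.fix_rho_pow hx i).1
    · rw [hθ', hd, (h.fix_rho_pow hx i).2, hi, div_mul_cancel₀ _ hx0]
  · obtain ⟨x, rfl⟩ := hmks a
    rw [hρ', hθ', hθ', hdrho, h.equiv _ ((hfix x).mp ha)]
  · ext a
    obtain ⟨x, rfl⟩ := hmks a
    rw [hrp, h.period]
    rfl

end Cfsg.Agent.Invol.SuzTwo
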